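import Cfsg.Agent.Lib.RootSub.OddTr.Count

/-!
# Odd transpositions: joined members have a common commuting member

Induction on the group order; a centre is divided out first.
-/

set_option autoImplicit false

namespace CfsgLib.RootInvol.OddTr

universe u

variable {G : Type u} [Group G] {D : Set G}

/-- The statement passes from a quotient by a nontrivial central subgroup. -/
theorem goal_of_centre [Finite G] (hD : Cfsg.IsOddTranspositionSet D)
    (hIH : GoalBelow.{u} (Nat.card G)) {v : G} (hv1 : v ≠ 1) (hv : ∀ f ∈ D, Commute v f) :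
    Goal D := by
  have hgen : ∀ z : G, (∀ f ∈ D, Commute z f) → z ∈ Subgroup.center G := fun z hz =>
    Subgroup.mem_center_iff.2 fun k => (commute_of_mem_closure_centre hz
      (hD.1.generates ▸ Subgroup.mem_top k)).eq.symm
  set Z := Subgroup.center G with hZdef
  have hlt : Nat.card (G ⧸ Z) < Nat.card G := by
    rw [Subgroup.card_eq_card_quotient_mul_card_subgroup Z]
    exact lt_mul_of_one_lt_right Nat.card_pos
      (Subgroup.one_lt_card_iff_ne_bot _ |>.2 fun h => hv1 (Subgroup.mem_bot.1 (h ▸ hgen v hv)))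
  have hG := hIH _ _ hlt (image_oddTr Z hD)
  set π := QuotientGroup.mk' Z with hπ
  have hnz : ∀ {a b : G}, a ∈ D → ¬ Commute a b → π a ∈ image Z D := fun {a b} ha hab =>
    ⟨fun h => hab (Subgroup.mem_center_iff.1 ((QuotientGroup.eq_one_iff a).1 h) b).symm, a, ha, rfl⟩
  have hiff : ∀ {a b : G}, a ∈ D → b ∈ D → Commute (π a) (π b) → Commute a b := by
    intro a b ha hb h
    by_contra hab
    have h1 := mk_eq_of_commute Z hD ha hb hab h
    rw [QuotientGroup.mk'_apply, QuotientGroup.mk'_apply, QuotientGroup.eq, inv_eq hD.1 ha] at h1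
    refine hab ?_
    have h2 : Commute a (a * b) := Subgroup.mem_center_iff.1 h1 a
    have h3 := (Commute.refl a).mul_right h2
    rwa [← mul_assoc, mul_self hD.1 ha, one_mul] at h3
  intro d e g x hd he hg hx hl hde heg hgx ndg nex ndx
  obtain ⟨l, hlD, hne, hc, hp⟩ := hl
  have hdl : π (d * l) ∈ image Z D :=
    hnz hp (fun h => ndg (((same_of_line' hD hd hlD hp hc).iff hg).2 h))
  obtain ⟨q, ⟨hq1, f, hf, rfl⟩, c1, c2, c3⟩ := hG (d := π d) (e := π e) (g := π g) (x := π x)
    (hnz hd ndg) (hnz he nex) (hnz hg (fun h => ndg h.symm)) (hnz hx (fun h => ndx h.symm))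
    ⟨π l, hnz hlD (fun h => ndg (((same_of_line hD hd hlD hp hc).iff hg).2 h)),
      fun h => hdl.1 (by
        rw [map_mul, h, ← map_mul, mul_self hD.1 hd, map_one]),
      hc.map π, by rw [← map_mul]; exact hdl⟩
    (hde.map π) (heg.map π) (hgx.map π) (fun h => ndg (hiff hd hg h)) (fun h => nex (hiff he hx h))
    (fun h => ndx (hiff hd hx h))
  exact ⟨f, hf, hiff hf hd c1, hiff hf he c2, hiff hf hx c3⟩

theorem goal_below (n : ℕ) : GoalBelow.{u} n := by
  induction n with
  | zero => exact fun H _ _ D h _ => absurd h (Nat.not_lt_zero _)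
  | succ n ih =>
    intro G _ _ D hcard hD
    have hIH : GoalBelow.{u} (Nat.card G) := fun K _ _ D' hK =>
      ih K D' (lt_of_lt_of_le hK (Nat.lt_succ_iff.1 hcard))
    by_cases hc : ∃ v : G, v ≠ 1 ∧ ∀ f ∈ D, Commute v f
    · obtain ⟨v, hv1, hv⟩ := hc
      exact goal_of_centre hD hIH hv1 hv
    push Not at hc
    intro d e g x hd he hg hx hl hde heg hgx ndg nex ndx
    by_contra hno
    push Not at hno
    obtain ⟨a, ha, hs, hla, hsh⟩ := exists_shift hD hd he hx hl hde ndx
    obtain ⟨l, hlD, hne, hcl, hp⟩ := hla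
    obtain ⟨w, hw, hwy, hwo⟩ := exists_mid hD hx (hD.1.conj_mem x hx _) hsh
    exact Counter.false_of_counter (D := D) (d := a) (e := e) (g := g) (x := x) (w := w) (l := l)
      { ot := hD
        below := hIH
        centreless := fun v hv => by
          by_contra hv1
          obtain ⟨f, hf, hvf⟩ := hc v hv1
          exact hvf (hv f hf)
        memd := ha, meme := he, memg := hg, memx := hx, meml := hlD, memw := hw
        lne := hne, cdl := hcl, memdl := hp
        cde := (hs.iff he).1 hde, ceg := heg, cgx := hgx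
        ndg := fun h => ndg ((hs.iff hg).2 h)
        nex := nex
        ndx := fun h => ndx ((hs.iff hx).2 h)
        none := fun f hf hfa hfe hfx => hno f hf ((hs.iff hf).2 hfa.symm).symm hfe hfx
        mid := hwy
        nwx := hwo }

theorem goal [Finite G] (hD : Cfsg.IsOddTranspositionSet D) : Goal D :=
  goal_below (Nat.card G + 1) G D (Nat.lt_succ_self _) hD

end CfsgLib.RootInvol.OddTr
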