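import Cfsg.Agent.Lib.RootSub.OddTransp
import Cfsg.Agent.Lib.RootSub.Chain

/-!
# Odd transpositions: middles, lines, classes of members with the same commuting members
-/

set_option autoImplicit false

namespace CfsgLib.RootInvol.OddTr

variable {G : Type*} [Group G] {D : Set G}

theorem conj_eq_self_iff {v x : G} : v * x * v⁻¹ = x ↔ Commute v x :=
  mul_inv_eq_iff_eq_mul

theorem conj_commute {v u x : G} (hu : Commute v u) (hx : Commute v x) :
    Commute v (u * x * u⁻¹) :=
  (hu.mul_right hx).mul_right hu.inv_right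

theorem commute_conj_iff {a b : G} (g : G) :
    Commute (g * a * g⁻¹) (g * b * g⁻¹) ↔ Commute a b :=
  Commute.conj_iff g

theorem oddAdj_of_not_commute (hD : Cfsg.IsOddTranspositionSet D) {a b : G} (ha : a ∈ D) (hb : b ∈ D)
    (h : ¬ Commute a b) : Cfsg.OddAdj D a b :=
  ⟨ha, hb, fun e => h (e ▸ Commute.refl a), (commute_or_odd hD ha hb).resolve_left h⟩

theorem not_commute_of_oddAdj (hD : Cfsg.IsRootInvolutionSet D) {a b : G} (h : Cfsg.OddAdj D a b) :
    ¬ Commute a b := fun hc => commute_not_odd hD h.1 h.2.1 h.2.2.1 hc.eq h.2.2.2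

theorem exists_conj (hD : Cfsg.IsOddTranspositionSet D) {H : Subgroup G} {a b : G} (ha : a ∈ D)
    (hb : b ∈ D) (h : ¬ Commute a b) (haH : a ∈ H) (hbH : b ∈ H) :
    ∃ g ∈ H, g * a * g⁻¹ = b := by
  obtain ⟨g, hg, hgb⟩ := CfsgLib.Invol.exists_conj_eq_of_odd (hD.1.orderOf_eq a ha)
    (hD.1.orderOf_eq b hb) (oddAdj_of_not_commute hD ha hb h).2.2.2
  exact ⟨g, Subgroup.zpowers_le.2 (H.mul_mem haH hbH) hg, hgb⟩

/-- A product of two commuting members commutes with no member that fails to commute with a factor. -/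
theorem not_commute_mul (hD : Cfsg.IsOddTranspositionSet D) {a b f : G} (ha : a ∈ D) (hb : b ∈ D)
    (hf : f ∈ D) (hne : a ≠ b) (hab : Commute a b) (haf : ¬ Commute a f) :
    ¬ Commute (a * b) f := fun h =>
  not_commute_product hD ha hb hf hne hab (fun e => haf (e ▸ Commute.refl a))
    (oddAdj_of_not_commute hD ha hf haf).2.2.2 h

/-- The middle of two members that do not commute. -/
theorem exists_mid [Finite G] (hD : Cfsg.IsOddTranspositionSet D) {x y : G} (hx : x ∈ D) (hy : y ∈ D)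
    (h : ¬ Commute x y) : ∃ w ∈ D, w * x * w = y ∧ ¬ Commute w x := by
  obtain ⟨w, hw, hwy, hodd⟩ := exists_middle hD.1 hx hy (oddAdj_of_not_commute hD hx hy h).2.2.2
  refine ⟨w, hw, hwy, fun hc => h ?_⟩
  rw [← hwy, hc.eq, mul_assoc, mul_self hD.1 hw, mul_one]

/-- The middle is unique. -/
theorem mid_unique (hD : Cfsg.IsOddTranspositionSet D) {x w w' : G} (hx : x ∈ D) (hw : w ∈ D)
    (hw' : w' ∈ D) (ow : ¬ Commute w x) (ow' : ¬ Commute w' x) (h : w' * x * w' = w * x * w) :
    w' = w :=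
  eq_of_conj_eq hD.1 hw' hw (oddAdj_of_not_commute hD hw' hx ow').2.2.2
    (oddAdj_of_not_commute hD hw hx ow).2.2.2 h

private theorem mid_conj (w v z : G) :
    v * w * v⁻¹ * z * (v * w * v⁻¹) = v * (w * (v⁻¹ * z * v) * w) * v⁻¹ := by
  simp only [mul_assoc]

/-- What fixes both ends commutes with the middle. -/
theorem mid_commute (hD : Cfsg.IsOddTranspositionSet D) {x w v : G} (hx : x ∈ D) (hw : w ∈ D)
    (ow : ¬ Commute w x) (hvx : Commute v x) (hvy : Commute v (w * x * w)) : Commute v w := by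
  rw [← conj_eq_self_iff]
  refine mid_unique hD hx hw (hD.1.conj_mem w hw v) ow (fun h => ow ?_) ?_
  · rw [← conj_eq_self_iff.2 hvx] at h
    exact (commute_conj_iff v).1 h
  · rw [mid_conj, mul_assoc v⁻¹, ← hvx.eq, inv_mul_cancel_left]
    exact conj_eq_self_iff.2 hvy

/-- What exchanges the ends commutes with the middle. -/
theorem mid_commute_swap (hD : Cfsg.IsOddTranspositionSet D) {x w v : G} (hx : x ∈ D) (hw : w ∈ D)
    (ow : ¬ Commute w x) (hvx : v * x * v⁻¹ = w * x * w) (hvy : v * (w * x * w) * v⁻¹ = x) :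
    Commute v w := by
  have sw := mul_self hD.1 hw
  have hz : v⁻¹ * x * v = w * x * w := by
    nth_rewrite 1 [← hvy]
    group
  rw [← conj_eq_self_iff]
  refine mid_unique hD hx hw (hD.1.conj_mem w hw v) ow (fun h => ow ?_) ?_
  · rw [← hvy] at h
    have h2 := (commute_conj_iff v).1 h
    have e : Commute (w * w * w⁻¹) (w * x * w⁻¹) := by
      rwa [mul_inv_cancel_right, inv_eq hD.1 hw]
    exact (commute_conj_iff w).1 e
  · rw [mid_conj, hz]
    rw [show w * (w * x * w) * w = w * w * x * (w * w) by simp only [mul_assoc], sw, one_mul, mul_one]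
    exact hvx

/-- The members commuting with `a`. -/
def cls (D : Set G) (a : G) : Set G := {f | f ∈ D ∧ Commute a f}

/-- Two members commute with the same members. -/
def Same (D : Set G) (a b : G) : Prop := cls D a = cls D b

theorem Same.iff {a b f : G} (h : Same D a b) (hf : f ∈ D) : Commute a f ↔ Commute b f := by
  constructor <;> intro hc
  · exact ((Set.ext_iff.1 h f).1 ⟨hf, hc⟩).2
  · exact ((Set.ext_iff.1 h f).2 ⟨hf, hc⟩).2

theorem same_of_iff {a b : G} (h : ∀ f ∈ D, Commute a f ↔ Commute b f) : Same D a b := by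
  ext f
  exact ⟨fun hc => ⟨hc.1, (h f hc.1).1 hc.2⟩, fun hc => ⟨hc.1, (h f hc.1).2 hc.2⟩⟩

theorem cls_conj (hD : Cfsg.IsRootInvolutionSet D) (g a : G) :
    cls D (g * a * g⁻¹) = (fun f => g * f * g⁻¹) '' cls D a := by
  ext f
  constructor
  · rintro ⟨hf, hc⟩
    refine ⟨g⁻¹ * f * g, ⟨by simpa using hD.conj_mem f hf g⁻¹, ?_⟩, by group⟩
    rw [← commute_conj_iff g, show g * (g⁻¹ * f * g) * g⁻¹ = f by group]
    exact hc
  · rintro ⟨f, ⟨hf, hc⟩, rfl⟩
    exact ⟨hD.conj_mem f hf g, (commute_conj_iff g).2 hc⟩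

theorem Same.conj (hD : Cfsg.IsRootInvolutionSet D) {a b : G} (h : Same D a b) (g : G) :
    Same D (g * a * g⁻¹) (g * b * g⁻¹) := by
  rw [Same, cls_conj hD, cls_conj hD, h]

/-- A member lies on a line. -/
def Lined (D : Set G) (a : G) : Prop := ∃ b ∈ D, b ≠ a ∧ Commute a b ∧ a * b ∈ D

theorem lined_conj (hD : Cfsg.IsRootInvolutionSet D) {a : G} (h : Lined D a) (g : G) :
    Lined D (g * a * g⁻¹) := by
  obtain ⟨b, hb, hne, hc, hp⟩ := h
  refine ⟨g * b * g⁻¹, hD.conj_mem b hb g, fun e => hne (mul_left_cancel (mul_right_cancel e)),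
    (commute_conj_iff g).2 hc, ?_⟩
  rw [show g * a * g⁻¹ * (g * b * g⁻¹) = g * (a * b) * g⁻¹ by group]
  exact hD.conj_mem _ hp g

theorem same_of_line (hD : Cfsg.IsOddTranspositionSet D) {a b : G} (ha : a ∈ D) (hb : b ∈ D)
    (hab : a * b ∈ D) (hc : Commute a b) : Same D a b :=
  same_of_iff fun _ hf =>
    ⟨commute_of_line hD ha hb hf hab hc, commute_of_line hD hb ha hf (hc.eq ▸ hab) hc.symm⟩

theorem same_of_line' (hD : Cfsg.IsOddTranspositionSet D) {a b : G} (ha : a ∈ D) (hb : b ∈ D)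
    (hab : a * b ∈ D) (hc : Commute a b) : Same D a (a * b) :=
  same_of_line hD ha hab (by rwa [← mul_assoc, mul_self hD.1 ha, one_mul])
    ((Commute.refl a).mul_right hc)

theorem lined_of_line {a b : G} (ha : a ∈ D) (hne : b ≠ a) (hc : Commute a b) (hab : a * b ∈ D) :
    Lined D b :=
  ⟨a, ha, hne.symm, hc.symm, hc.eq ▸ hab⟩

/-- Some member of the line of `d` moves `x` to a member not commuting with it. -/
theorem exists_shift (hD : Cfsg.IsOddTranspositionSet D) {d e x : G} (hd : d ∈ D) (he : e ∈ D)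
    (hx : x ∈ D) (hl : Lined D d) (hde : Commute d e) (hdx : ¬ Commute d x) :
    ∃ a ∈ D, Same D d a ∧ Lined D a ∧ ¬ Commute x (a * e * x * (a * e)⁻¹) := by
  by_contra hno
  push Not at hno
  obtain ⟨l, hlD, hne, hc, hp⟩ := hl
  have hs := same_of_line hD hd hlD hp hc
  have hs' := same_of_line' hD hd hlD hp hc
  have ho := oddAdj_of_not_commute hD hp hx (fun h => hdx ((hs'.iff hx).2 h))
  exact not_commute_translates hD hd he hx hp hc hde ((hs.iff he).1 hde) ho.2.2.2 ho.2.2.1
    (hno d hd rfl ⟨l, hlD, hne, hc, hp⟩) (hno l hlD hs (lined_of_line hd hne hc hp))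

/-- `Goal D`: a member with line, on a path `d - e - g - x` of commuting members, has with `e` and
`x` a common commuting member. -/
def Goal (D : Set G) : Prop :=
  ∀ ⦃d e g x : G⦄, d ∈ D → e ∈ D → g ∈ D → x ∈ D → Lined D d → Commute d e → Commute e g →
    Commute g x → ¬ Commute d g → ¬ Commute e x → ¬ Commute d x →
      ∃ f ∈ D, Commute f d ∧ Commute f e ∧ Commute f x

/-- One step along the commuting graph. -/
def Step (D : Set G) (a b : G) : Prop := a ∈ D ∧ b ∈ D ∧ Commute a b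

/-- Joined in the commuting graph. -/
def Reach (D : Set G) (a b : G) : Prop := Relation.ReflTransGen (Step D) a b

/-- Members joined in the commuting graph have a common commuting member. -/
theorem common (hG : Goal D) {d x : G} (hd : d ∈ D) (hl : Lined D d) (h : Reach D d x) :
    ∃ f ∈ D, Commute f d ∧ Commute f x := by
  induction h with
  | refl => exact ⟨d, hd, Commute.refl d, Commute.refl d⟩
  | @tail y y' _ hs ih =>
    obtain ⟨f, hf, hfd, hfy⟩ := ih
    by_cases h1 : Commute f y'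
    · exact ⟨f, hf, hfd, h1⟩
    by_cases h2 : Commute d y
    · exact ⟨y, hs.1, h2.symm, hs.2.2⟩
    by_cases h3 : Commute d y'
    · exact ⟨d, hd, Commute.refl d, h3⟩
    obtain ⟨f', hf', a, -, c⟩ := hG hd hf hs.1 hs.2.1 hl hfd.symm hfy hs.2.2 h2 h1 h3
    exact ⟨f', hf', a, c⟩

/-- Two commuting members and one joined to them have a common commuting member. -/
theorem common₃ (hD : Cfsg.IsOddTranspositionSet D) (hG : Goal D) {d e x : G} (hd : d ∈ D)
    (he : e ∈ D) (hx : x ∈ D) (hl : Lined D d) (hde : Commute d e) (hex : ¬ Commute e x)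
    (hdx : ¬ Commute d x) (h : Reach D d x) :
    ∃ f ∈ D, Commute f d ∧ Commute f e ∧ Commute f x := by
  obtain ⟨f, hf, hfd, hfx⟩ := common hG hd hl h
  by_cases hfe : Commute f e
  · exact ⟨f, hf, hfd, hfe, hfx⟩
  obtain ⟨k, -, hk⟩ := exists_conj hD hd hx hdx (Subgroup.mem_top d) (Subgroup.mem_top x)
  obtain ⟨k', -, hk'⟩ := exists_conj hD hx he (fun h => hex h.symm) (Subgroup.mem_top x)
    (Subgroup.mem_top e)
  have hle : Lined D e := hk' ▸ lined_conj hD.1 (hk ▸ lined_conj hD.1 hl k) k'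
  obtain ⟨f', hf', a, b, c⟩ :=
    hG he hd hf hx hle hde.symm hfd.symm hfx (fun h => hfe h.symm) hdx hex
  exact ⟨f', hf', b, a, c⟩

end CfsgLib.RootInvol.OddTr
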