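import Cfsg.Agent.Lib.RootSub.OddTr.Split

/-!
# Blocks of an inner set with disconnected commuting graph

The properties are stated in the ambient group.  If the classes of members with the same commuting
members are oddly many in a block, congruent members have the same commuting members.
-/

set_option autoImplicit false

namespace CfsgLib.RootInvol.OddTr

universe u

variable {G : Type u} [Group G] {D Y : Set G}

/-- Fixes every block of `Y`. -/
def Kern (Y : Set G) (v : G) : Prop :=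
  v ∈ Subgroup.closure Y ∧ ∀ c ∈ Y, Commute c (v * c * v⁻¹)

/-- Commuting members of `Y` congruent modulo the kernel. -/
def Mate (Y : Set G) (a b : G) : Prop := a ∈ Y ∧ b ∈ Y ∧ Commute a b ∧ Kern Y (a * b)

/-- The blocks of an inner set. -/
structure IsBlocks (D Y : Set G) : Prop where
  inner : IsInner D Y
  clique : ∀ {a b c : G}, a ∈ Y → b ∈ Y → c ∈ Y → Commute a b → Commute b c → Commute a c
  isConj : ∀ {a b : G}, a ∈ Y → b ∈ Y → ∃ g ∈ Subgroup.closure Y, g * a * g⁻¹ = b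
  kern_of : ∀ {a b c : G}, a ∈ Y → b ∈ Y → c ∈ Y → Commute a b → ¬ Commute a c →
    Commute c (a * b * c * (a * b)⁻¹) → Kern Y (a * b)
  not_kern : ∀ {a : G}, a ∈ Y → ¬ Kern Y a
  kern_mul : ∀ {v v' : G}, Kern Y v → Kern Y v' → Kern Y (v * v')
  kern_inv : ∀ {v : G}, Kern Y v → Kern Y v⁻¹
  kern_conj : ∀ {g v : G}, g ∈ Subgroup.closure Y → Kern Y v → Kern Y (g * v * g⁻¹)
  orbit : ∃ P : Subgroup G, IsPGroup 2 P ∧ (∀ p ∈ P, Kern Y p) ∧
    ∀ a b : G, Mate Y a b → ∃ p ∈ P, p * a * p⁻¹ = b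

theorem reach_val {a b : ↥(Subgroup.closure Y)} (h : Reach (inner Y) a b) : Reach Y a.1 b.1 := by
  induction h with
  | refl => exact Relation.ReflTransGen.refl
  | tail _ hs ih => exact ih.tail ⟨hs.1, hs.2.1, commute_coe_iff.2 hs.2.2⟩

theorem isBlocks [Finite G] (hD : Cfsg.IsOddTranspositionSet D) (hY : IsInner D Y) {a₀ b₀ : G}
    (ha₀ : a₀ ∈ Y) (hl : Lined Y a₀) (hb₀ : b₀ ∈ Y) (hr : ¬ Reach Y a₀ b₀) : IsBlocks D Y := by
  have hS : IsSplit (inner Y) := ⟨inner_oddTr hD hY, ⟨lift ha₀, ha₀, lined_inner ha₀ hl⟩,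
    ⟨lift ha₀, ha₀, lift hb₀, hb₀, fun h => hr (reach_val h)⟩⟩
  have hN := hS.ker_normal
  have hk : ∀ {v : ↥(Subgroup.closure Y)}, v ∈ hS.ker ↔ Kern Y (v : G) := by
    intro v
    rw [hS.mem_ker_iff]
    exact ⟨fun h => ⟨v.2, fun c hc => commute_coe_iff.2 (h (lift hc) hc)⟩,
      fun h c hc => commute_coe_iff.1 (h.2 c hc)⟩
  refine
    { inner := hY
      clique := fun {a b c} ha hb hc h h' => commute_coe_iff.2
        (hS.clique (a := lift ha) (b := lift hb) (c := lift hc) ha hb hc (commute_coe_iff.1 h)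
          (commute_coe_iff.1 h'))
      isConj := fun {a b} ha hb => ?_
      kern_of := fun {a b c} ha hb hc hab hac h =>
        hk.1 (hS.mul_mem_ker (a := lift ha) (b := lift hb) (c := lift hc) ha hb hc
          (commute_coe_iff.1 hab) (fun h' => hac (commute_coe_iff.2 h')) (commute_coe_iff.1 h))
      not_kern := fun {a} ha h => hS.not_mem_ker (a := lift ha) ha (hk.2 h)
      kern_mul := fun {v v'} h h' =>
        hk.1 (mul_mem ((hk (v := ⟨v, h.1⟩)).2 h) ((hk (v := ⟨v', h'.1⟩)).2 h'))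
      kern_inv := fun {v} h => hk.1 (inv_mem ((hk (v := ⟨v, h.1⟩)).2 h))
      kern_conj := fun {g v} hg h =>
        hk.1 (hN.conj_mem _ ((hk (v := ⟨v, h.1⟩)).2 h) ⟨g, hg⟩)
      orbit := ?_ }
  · obtain ⟨g, hg⟩ := hS.exists_conj_eq (a := lift ha) (b := lift hb) ha hb
    exact ⟨g, g.2, congrArg Subtype.val hg⟩
  · obtain ⟨P, hP, hPk, hPo⟩ := hS.exists_twoGroup
    refine ⟨P.map (Subgroup.closure Y).subtype, hP.map _, ?_, fun a b h => ?_⟩
    · rintro _ ⟨p, hp, rfl⟩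
      exact hk.1 (hPk p hp)
    · obtain ⟨p, hp, e⟩ := hPo (lift h.1) h.1 (lift h.2.1) h.2.1 (commute_coe_iff.1 h.2.2.1)
        (hk.2 h.2.2.2)
      exact ⟨p, ⟨p, hp, rfl⟩, congrArg Subtype.val e⟩

namespace IsBlocks

variable (hB : IsBlocks D Y)
include hB

theorem mate_symm {a b : G} (h : Mate Y a b) : Mate Y b a :=
  ⟨h.2.1, h.1, h.2.2.1.symm, h.2.2.1.eq ▸ h.2.2.2⟩

theorem mate_refl (hD : Cfsg.IsRootInvolutionSet D) {a : G} (ha : a ∈ Y) : Mate Y a a :=
  ⟨ha, ha, Commute.refl a, by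
    rw [mul_self hD (hB.inner.sub ha)]
    exact ⟨one_mem _, fun c _ => by simp⟩⟩

theorem mate_trans (hD : Cfsg.IsRootInvolutionSet D) {a b c : G} (h : Mate Y a b) (h' : Mate Y b c) :
    Mate Y a c := by
  refine ⟨h.1, h'.2.1, hB.clique h.1 h.2.1 h'.2.1 h.2.2.1 h'.2.2.1, ?_⟩
  have := hB.kern_mul h.2.2.2 h'.2.2.2
  rwa [mul_assoc a b, ← mul_assoc b b, mul_self hD (hB.inner.sub h.2.1), one_mul] at this

theorem mate_conj {a b g : G} (h : Mate Y a b) (hg : g ∈ Subgroup.closure Y) :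
    Mate Y (g * a * g⁻¹) (g * b * g⁻¹) :=
  ⟨hB.inner.conj g hg a h.1, hB.inner.conj g hg b h.2.1, (commute_conj_iff g).2 h.2.2.1, by
    rw [show g * a * g⁻¹ * (g * b * g⁻¹) = g * (a * b) * g⁻¹ by group]
    exact hB.kern_conj hg h.2.2.2⟩

theorem mate_kern (hD : Cfsg.IsRootInvolutionSet D) {a v : G} (ha : a ∈ Y) (hv : Kern Y v) :
    Mate Y a (v * a * v⁻¹) := by
  refine ⟨ha, hB.inner.conj v hv.1 a ha, hv.2 a ha, ?_⟩
  rw [show a * (v * a * v⁻¹) = a * v * a * v⁻¹ by group]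
  nth_rewrite 2 [← inv_eq hD (hB.inner.sub ha)]
  exact hB.kern_mul (hB.kern_conj (Subgroup.subset_closure ha) hv) (hB.kern_inv hv)

/-- Members whose product is a member are not congruent. -/
theorem not_mate {a b : G} (hab : a * b ∈ Y) : ¬ Mate Y a b := fun h => hB.not_kern hab h.2.2.2

/-- With oddly many classes in a block, congruent members have the same commuting members. -/
theorem same_of_odd [Finite G] (hD : Cfsg.IsOddTranspositionSet D) {d : G} (hd : d ∈ Y)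
    (hodd : Odd (Set.ncard (cls D '' {a | a ∈ Y ∧ Commute a d}))) {a b : G} (h : Mate Y a b) :
    Same D a b := by
  obtain ⟨P, hP, hPk, hPo⟩ := hB.orbit
  set T := cls D '' {a | a ∈ Y ∧ Commute a d} with hT
  have hstep : ∀ p ∈ P, ∀ S ∈ T, (fun f => p * f * p⁻¹) '' S ∈ T := by
    rintro p hp _ ⟨c, ⟨hc, hcd⟩, rfl⟩
    refine ⟨p * c * p⁻¹, ⟨hB.inner.conj p (hPk p hp).1 c hc, ?_⟩, cls_conj hD.1 p c⟩
    exact hB.clique (hB.inner.conj p (hPk p hp).1 c hc) hc hd ((hPk p hp).2 c hc).symm hcd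
  let act : MulAction P ↥T :=
    { smul := fun p S => ⟨(fun f => (p : G) * f * (p : G)⁻¹) '' S.1, hstep p p.2 _ S.2⟩
      one_smul := fun S => Subtype.ext (show (fun f => (1 : G) * f * (1 : G)⁻¹) '' S.1 = S.1 by simp)
      mul_smul := fun p q S => Subtype.ext (by
        show (fun f => (p * q : G) * f * (p * q : G)⁻¹) '' S.1 =
          (fun f => (p : G) * f * (p : G)⁻¹) '' ((fun f => (q : G) * f * (q : G)⁻¹) '' S.1)
        rw [Set.image_image]
        refine Set.image_congr fun f _ => ?_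
        group) }
  have := Fact.mk Nat.prime_two
  obtain ⟨S, hS⟩ := hP.nonempty_fixed_point_of_prime_not_dvd_card (α := ↥T) (by
    rw [Nat.card_coe_set_eq]
    exact fun h2 => Nat.not_even_iff_odd.2 hodd (even_iff_two_dvd.2 h2))
  obtain ⟨c, ⟨hc, -⟩, hSc⟩ := S.2
  have hfix : ∀ p ∈ P, Same D (p * c * p⁻¹) c := fun p hp => by
    have := congrArg Subtype.val (hS ⟨p, hp⟩)
    rw [Same, cls_conj hD.1, hSc]
    exact this
  obtain ⟨g, hg, hga⟩ := hB.isConj h.1 hc
  obtain ⟨p, hp, hpb⟩ := hPo _ _ (hga ▸ hB.mate_conj h hg)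
  have h1 : Same D (g * a * g⁻¹) (g * b * g⁻¹) := by
    rw [hga, ← hpb]
    exact (hfix p hp).symm
  have h2 := h1.conj hD.1 g⁻¹
  rwa [show g⁻¹ * (g * a * g⁻¹) * g⁻¹⁻¹ = a by group,
    show g⁻¹ * (g * b * g⁻¹) * g⁻¹⁻¹ = b by group] at h2

end IsBlocks

end CfsgLib.RootInvol.OddTr
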