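import Cfsg.Agent.Lib.RootSub.OddTr.Systems

/-!
# There is no minimal path without common neighbour

The classes of the block of `d` are one more than those of its block near `e`; since `d` and `w` are
congruent near `e` and in different classes, congruent members in the outer system share their class.
Then more involutions centralise `d`, `e`, `x` than there are members of the class of `g` congruent
to `g` near `e`, and two of them move `g` to the same member.
-/

set_option autoImplicit false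

namespace CfsgLib.RootInvol.OddTr

universe u

variable {G : Type u} [Group G]

namespace Counter

variable {D : Set G} {d e g x w l : G} [Finite G] (C : Counter D d e g x w l)
include C

theorem mate_near_dw : Mate (near D e) d w := by
  have h := (C.move C.u_sq C.u_ne_one C.u_d C.u_l C.u_e C.u_x).2
  rw [show d * e * w = d * w * e by rw [mul_assoc, C.cdw.2.eq, ← mul_assoc],
    conj_drop C.ceg] at h
  exact ⟨C.near_d, C.near_w, C.cdw.1, C.nearE.kern_of C.near_d C.near_w C.near_g C.cdw.1 C.ndg h⟩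

theorem not_same_dw : ¬ Same D d w := fun hs => by
  have hm : ¬ Mate (centre D (d * e * w)) d w := fun h => by
    have h2 := h.2.2.2.2 x ⟨C.memx, C.u_x⟩
    rw [show d * w = e * (d * e * w) by
      rw [← mul_assoc, ← mul_assoc, ← C.cde.eq, mul_assoc d e e, mul_self C.ot.1 C.meme, mul_one],
      conj_drop C.u_x] at h2
    exact not_commute_conj C.ot C.meme C.memx C.nex h2
  have hp := C.b_closed C.b_d C.b_w hs hm
  exact C.nearE.not_mate (a := d) (b := w) ⟨hp, C.cde.symm.mul_right C.cdw.2,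
    fun h => C.not_same_de ((same_of_line' C.ot C.memd C.memw hp C.cdw.1).trans h)⟩ C.mate_near_dw

theorem near_classes :
    cls D '' {a | a ∈ near D e ∧ Commute a d} =
      cls D '' {a | a ∈ centre D (d * e * w) ∧ Commute a d} \ {cls D e} := by
  ext S
  constructor
  · rintro ⟨a, ⟨ha, had⟩, rfl⟩
    exact ⟨⟨a, C.b_of_near ha had, rfl⟩, fun h => ha.2.2 h⟩
  · rintro ⟨⟨a, ⟨ha, had⟩, rfl⟩, hne⟩
    exact ⟨a, ⟨⟨ha.1, C.b_comm C.b_e ⟨ha, had⟩, hne⟩, had⟩, rfl⟩

theorem mate_same {a b : G} (h : Mate (centre D (d * e * w)) a b) : Same D a b := by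
  have hfin := Set.toFinite (cls D '' {a | a ∈ centre D (d * e * w) ∧ Commute a d})
  have hmem : cls D e ∈ cls D '' {a | a ∈ centre D (d * e * w) ∧ Commute a d} := ⟨e, C.b_e, rfl⟩
  refine C.outer.same_of_odd C.ot C.b_d.1 ?_ h
  have h1 : ¬ Odd (Set.ncard (cls D '' {a | a ∈ near D e ∧ Commute a d})) := fun ho =>
    C.not_same_dw (C.nearE.same_of_odd C.ot C.near_d ho C.mate_near_dw)
  rw [C.near_classes, Nat.not_odd_iff_even] at h1
  rw [← Set.ncard_diff_singleton_add_one hmem hfin]
  exact h1.add_one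

theorem false_of_counter : False := by
  let O := centre D (d * e * w)
  let MA : Set G := {b | Mate O d b}
  let ME : Set G := {b | Mate O e b}
  let MX : Set G := {b | Mate O x b}
  let A1 : Set G := {b | Mate (near D e) d b ∧ Same D d b}
  let AG : Set G := {b | Mate (near D e) g b ∧ Same D g b}
  have bA : ∀ b ∈ MA, InBlock D (d * e * w) d b := fun b hb => ⟨hb.2.1, hb.2.2.1.symm⟩
  have bE : ∀ c ∈ ME, InBlock D (d * e * w) d c := fun c hc =>
    ⟨hc.2.1, C.outer.clique hc.2.1 C.b_e.1 C.b_d.1 hc.2.2.1.symm C.cde.symm⟩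
  have hA1 : A1 ⊆ MA := by
    rintro b ⟨hm, hs⟩
    have hbb := C.b_of_near hm.2.1 hm.2.2.1.symm
    by_contra hno
    have hp := C.b_closed C.b_d hbb hs hno
    exact C.nearE.not_mate (a := d) (b := b) ⟨hp, C.cde.symm.mul_right hm.2.1.2.1,
      fun h => C.not_same_de ((same_of_line' C.ot C.memd hm.2.1.1 hp hm.2.2.1).trans h)⟩ hm
  obtain ⟨h, hh, hhd⟩ := C.nearE.isConj C.near_d C.near_g
  have hAG : AG.ncard ≤ A1.ncard := by
    refine Set.ncard_le_ncard_of_injOn (fun b => h⁻¹ * b * h) ?_ ?_ (Set.toFinite _)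
    · rintro b ⟨hm, hs⟩
      have h1 := C.nearE.mate_conj hm (inv_mem hh)
      have h2 := hs.conj C.ot.1 h⁻¹
      rw [← hhd, show h⁻¹ * (h * d * h⁻¹) * h⁻¹⁻¹ = d by group,
        show h⁻¹ * b * h⁻¹⁻¹ = h⁻¹ * b * h by group] at h1 h2
      exact ⟨h1, h2⟩
    · intro a _ b _ hab
      exact mul_left_cancel (mul_right_cancel hab)
  obtain ⟨k, hk, hke⟩ := C.outer.isConj C.b_e.1 (⟨C.memx, C.u_x⟩ : x ∈ O)
  have hXE : MX.ncard ≤ ME.ncard := by
    refine Set.ncard_le_ncard_of_injOn (fun b => k⁻¹ * b * k) ?_ ?_ (Set.toFinite _)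
    · intro b hm
      have h1 := C.outer.mate_conj (show Mate O x b from hm) (inv_mem hk)
      rwa [← hke, show k⁻¹ * (k * e * k⁻¹) * k⁻¹⁻¹ = e by group,
        show k⁻¹ * b * k⁻¹⁻¹ = k⁻¹ * b * k by group] at h1
    · intro a _ b _ hab
      exact mul_left_cancel (mul_right_cancel hab)
  have hψ : Set.MapsTo (fun c => e * c * x * (e * c)⁻¹) ME MX :=
    fun c hc => C.outer.mate_kern C.ot.1 ⟨C.memx, C.u_x⟩ hc.2.2.2
  have hψi : Set.InjOn (fun c => e * c * x * (e * c)⁻¹) ME := by
    intro c hc c' hc' hcc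
    by_contra hne
    refine not_commute_mul C.ot (bE c hc).1.1 (bE c' hc').1.1 C.memx hne
      (C.b_comm (bE c hc) (bE c' hc')) (C.b_x (bE c hc)) ?_
    have h2 := commute_mul_of_conj (sq_mul hc.2.2.1 (mul_self C.ot.1 C.meme)
      (mul_self C.ot.1 (bE c hc).1.1)) hcc.symm
    rwa [(show Commute c e from hc.2.2.1.symm).mul_mul_mul_comm, mul_self C.ot.1 C.meme, one_mul] at h2
  have hψs : Set.SurjOn (fun c => e * c * x * (e * c)⁻¹) ME MX := by
    rw [Set.SurjOn, Set.eq_of_subset_of_ncard_le hψ.image_subset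
      (by rw [hψi.ncard_image]; exact hXE) (Set.toFinite _)]
  have hσ : ∀ b : G, b ∈ MA → ∃ c ∈ ME, e * c * x * (e * c)⁻¹ = d * b * x * (d * b)⁻¹ :=
    fun b hb => hψs (C.outer.mate_kern C.ot.1 ⟨C.memx, C.u_x⟩ hb.2.2.2)
  choose! σ hσE hσ using hσ
  let r : G → G := fun b => d * b * (e * σ b)
  let S : Set G := insert (d * e * w) (r '' MA)
  have sameA : ∀ b ∈ MA, Same D d b := fun b hb => C.mate_same hb
  have cgE : ∀ b ∈ MA, Commute (e * σ b) g := fun b hb =>
    C.ceg.mul_left (((C.mate_same (hσE b hb)).iff C.memg).1 C.ceg)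
  have ceg' : ∀ b ∈ MA, Commute g (σ b) := fun b hb =>
    (((C.mate_same (hσE b hb)).iff C.memg).1 C.ceg).symm
  have hri : Set.InjOn r MA := by
    intro b hb b' hb' hbb
    by_contra hne
    refine not_commute_mul C.ot (bA b hb).1.1 (bA b' hb').1.1 C.memg hne
      (C.b_comm (bA b hb) (bA b' hb')) (fun h => C.ndg (((sameA b hb).iff C.memg).2 h)) ?_
    have e1 : b * b' = σ b * σ b' := by
      have h1 : b * (e * σ b) = b' * (e * σ b') := mul_left_cancel (a := d) (by
        simpa only [r, mul_assoc] using hbb)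
      have cbe := C.b_comm (bA b hb) C.b_e
      have cbe' := C.b_comm (bA b' hb') C.b_e
      rw [← mul_assoc, ← mul_assoc, cbe.eq, cbe'.eq, mul_assoc, mul_assoc] at h1
      have h2 := mul_left_cancel h1
      have cs := C.b_comm (bA b' hb') (bE _ (hσE b hb))
      calc b * b' = b * σ b * σ b * b' := by
            rw [mul_assoc b, mul_self C.ot.1 (bE _ (hσE b hb)).1.1, mul_one]
        _ = b' * σ b' * (σ b * b') := by rw [h2, mul_assoc (b' * σ b')]
        _ = σ b' * b' * (b' * σ b) := by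
            rw [(C.b_comm (bA b' hb') (bE _ (hσE b' hb'))).eq, cs.eq]
        _ = σ b' * σ b := by
            rw [mul_assoc (σ b'), ← mul_assoc b' b', mul_self C.ot.1 (bA b' hb').1.1, one_mul]
        _ = σ b * σ b' := (C.b_comm (bE _ (hσE b' hb')) (bE _ (hσE b hb))).eq
    rw [e1]
    exact ((ceg' b hb).mul_right (ceg' b' hb')).symm
  have hu : d * e * w ∉ r '' MA := by
    rintro ⟨b, hb, hbu⟩
    have hc := bE _ (hσE b hb)
    have hw : b * σ b = w := by
      have h1 : b * (e * σ b) = e * w := mul_left_cancel (a := d) (by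
        simpa only [r, mul_assoc] using hbu)
      rw [← mul_assoc, (C.b_comm (bA b hb) C.b_e).eq, mul_assoc] at h1
      exact mul_left_cancel h1
    exact C.not_same_de ((sameA b hb).trans ((same_of_line C.ot (bA b hb).1.1 hc.1.1
      (hw.symm ▸ C.memw) (C.b_comm (bA b hb) hc)).trans (C.mate_same (hσE b hb)).symm))
  have hcard : S.ncard = MA.ncard + 1 := by
    rw [Set.ncard_insert_of_notMem hu (Set.toFinite _), hri.ncard_image]
  -- every element of `S` centralises the block and `x`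
  have hS : ∀ v ∈ S, v * v = 1 ∧ Commute v x ∧
      (∀ a, InBlock D (d * e * w) d a → Commute v a) ∧
      ∃ p, p ∈ near D e ∧ Commute d p ∧ v * g * v⁻¹ = d * p * g * (d * p)⁻¹ := by
    rintro v (rfl | ⟨b, hb, rfl⟩)
    · refine ⟨C.u_sq, C.u_x, fun a ha => C.u_of ha.2 (C.b_comm ha C.b_e) (C.b_comm ha C.b_w), w,
        C.near_w, C.cdw.1, ?_⟩
      rw [show d * e * w = d * w * e by rw [mul_assoc, C.cdw.2.eq, ← mul_assoc], conj_drop C.ceg]
    · have hc := bE _ (hσE b hb)
      have cdb := C.b_comm C.b_d (bA b hb)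
      have cec := C.b_comm C.b_e hc
      have c1 : ∀ a, InBlock D (d * e * w) d a → Commute (d * b * (e * σ b)) a := fun a ha =>
        ((C.b_comm C.b_d ha).mul_left (C.b_comm (bA b hb) ha)).mul_left
          ((C.b_comm C.b_e ha).mul_left (C.b_comm hc ha))
      have s1 := sq_mul cdb (mul_self C.ot.1 C.memd) (mul_self C.ot.1 (bA b hb).1.1)
      have s2 := sq_mul cec (mul_self C.ot.1 C.meme) (mul_self C.ot.1 hc.1.1)
      have cc : Commute (d * b) (e * σ b) :=
        ((C.b_comm C.b_d C.b_e).mul_right (C.b_comm C.b_d hc)).mul_left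
          ((C.b_comm (bA b hb) C.b_e).mul_right (C.b_comm (bA b hb) hc))
      refine ⟨sq_mul cc s1 s2, commute_mul_of_conj s1 (hσ b hb), c1, b,
        ⟨(bA b hb).1.1, C.b_comm C.b_e (bA b hb), fun h => C.not_same_de ((sameA b hb).trans h)⟩,
        cdb, conj_drop (cgE b hb)⟩
  have hmaps : Set.MapsTo (fun v => v * g * v⁻¹) S AG := by
    intro v hv
    obtain ⟨s, vx, vB, p, hp, cdp, hconj⟩ := hS v hv
    by_cases hv1 : v = 1
    · subst hv1
      simp only [one_mul, inv_one, mul_one]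
      exact ⟨C.nearE.mate_refl C.ot.1 C.near_g, rfl⟩
    obtain ⟨ceg1, cgg⟩ := C.move s hv1 (vB d C.b_d) (vB l C.b_l) (vB e C.b_e) vx
    have hk' := C.nearE.kern_of C.near_d hp C.near_g cdp C.ndg (hconj ▸ cgg)
    have hm : Mate (near D e) g (v * g * v⁻¹) := hconj ▸ C.nearE.mate_kern C.ot.1 C.near_g hk'
    refine ⟨hm, ?_⟩
    by_contra hns
    have hxg : Commute (v * g * v⁻¹) x := (conj_commute vx.symm C.cgx.symm).symm
    have hhi : h⁻¹ * g * h = d := by rw [← hhd]; group
    have hek : Commute e h := commute_of_mem_closure_centre (fun _ ha => ha.2.1) hh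
    have hm' := C.nearE.mate_conj hm (inv_mem hh)
    rw [inv_inv, hhi] at hm'
    have hk2 : InBlock D (d * e * w) d (h⁻¹ * x * h) := by
      refine C.b_line (a := d) (b := h⁻¹ * (v * g * v⁻¹) * h) ?_ C.b_d
        (C.b_of_near hm'.2.1 hm'.2.2.1.symm) (fun hs => hns ?_) ?_ ?_
      · simpa using C.ot.1.conj_mem x C.memx h⁻¹
      · have h2 := hs.conj C.ot.1 h
        rwa [hhd, show h * (h⁻¹ * (v * g * v⁻¹) * h) * h⁻¹ = v * g * v⁻¹ by group] at h2
      · rw [← commute_conj_iff h, hhd, show h * (h⁻¹ * x * h) * h⁻¹ = x by group]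
        exact C.cgx.symm
      · rw [← commute_conj_iff h,
          show h * (h⁻¹ * (v * g * v⁻¹) * h) * h⁻¹ = v * g * v⁻¹ by group,
          show h * (h⁻¹ * x * h) * h⁻¹ = x by group]
        exact hxg.symm
    have h3 := (commute_conj_iff h).2 (C.b_comm C.b_e hk2)
    rw [show h * (h⁻¹ * x * h) * h⁻¹ = x by group, conj_eq_self_iff.2 hek.symm] at h3
    exact C.nex h3
  have hinj : Set.InjOn (fun v => v * g * v⁻¹) S := by
    intro v hv v' hv' hvv
    obtain ⟨s, vx, vB, -⟩ := hS v hv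
    obtain ⟨s', vx', vB', -⟩ := hS v' hv'
    have h1 := C.escape C.memg C.ceg C.cgx ((vB d C.b_d).mul_left (vB' d C.b_d))
      ((vB l C.b_l).mul_left (vB' l C.b_l)) ((vB e C.b_e).mul_left (vB' e C.b_e))
      (commute_mul_of_conj s hvv.symm) (vx.mul_left vx')
    rw [eq_inv_of_mul_eq_one_left h1]
    exact inv_eq_of_mul_eq_one_right s'
  have h1 := Set.ncard_le_ncard_of_injOn _ hmaps hinj (Set.toFinite _)
  have h2 := Set.ncard_le_ncard hA1 (Set.toFinite _)
  omega

end Counter

end CfsgLib.RootInvol.OddTr
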