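import Cfsg.Agent.Lib.RootSub.OddTr.Blocks

/-!
# A minimal path without common neighbour

`d - e - g - x` is a path of commuting members in a centreless group, no member commutes with `d`, `e`
and `x`, and the middle `w` of `x` and its translate by `d e` does not commute with `x`.  The members
commuting with `d e w` then form blocks; so do the members commuting with `e`.
-/

set_option autoImplicit false

namespace CfsgLib.RootInvol.OddTr

universe u

variable {G : Type u} [Group G]

/-- The members commuting with `v`. -/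
def centre (D : Set G) (v : G) : Set G := {a | a ∈ D ∧ Commute v a}

/-- A path without common neighbour. -/
structure Counter (D : Set G) (d e g x w l : G) : Prop where
  ot : Cfsg.IsOddTranspositionSet D
  below : GoalBelow.{u} (Nat.card G)
  centreless : ∀ v : G, (∀ f ∈ D, Commute v f) → v = 1
  memd : d ∈ D
  meme : e ∈ D
  memg : g ∈ D
  memx : x ∈ D
  meml : l ∈ D
  memw : w ∈ D
  lne : l ≠ d
  cdl : Commute d l
  memdl : d * l ∈ D
  cde : Commute d e
  ceg : Commute e g
  cgx : Commute g x
  ndg : ¬ Commute d g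
  nex : ¬ Commute e x
  ndx : ¬ Commute d x
  none : ∀ f ∈ D, Commute f d → Commute f e → Commute f x → False
  mid : w * x * w = d * e * x * (d * e)⁻¹
  nwx : ¬ Commute w x

theorem commute_of_mem_closure_centre {v : G} {Y : Set G} (hY : ∀ a ∈ Y, Commute v a) {k : G}
    (hk : k ∈ Subgroup.closure Y) : Commute v k := by
  induction hk using Subgroup.closure_induction with
  | mem a ha => exact hY a ha
  | one => exact Commute.one_right v
  | mul a b _ _ ha hb => exact ha.mul_right hb
  | inv a _ ha => exact ha.inv_right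

theorem centre_inner {D : Set G} (hD : Cfsg.IsRootInvolutionSet D) (v : G) :
    IsInner D (centre D v) where
  sub _ h := h.1
  conj k hk b hb := ⟨hD.conj_mem b hb.1 k,
    conj_commute (commute_of_mem_closure_centre (fun _ ha => ha.2) hk) hb.2⟩

/-- Equal translates by `p` and `q` make their product commute. -/
theorem commute_mul_of_conj {x p q : G} (hp : p * p = 1)
    (h : q * x * q⁻¹ = p * x * p⁻¹) : Commute (p * q) x := by
  rw [← conj_eq_self_iff]
  calc p * q * x * (p * q)⁻¹ = p * (q * x * q⁻¹) * p⁻¹ := by group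
    _ = (p * p) * x * (p * p)⁻¹ := by rw [h]; group
    _ = x := by rw [hp]; group

theorem conj_drop {p q g : G} (h : Commute q g) : p * q * g * (p * q)⁻¹ = p * g * p⁻¹ := by
  rw [mul_assoc p q g, h.eq]
  group

theorem sq_mul {a b : G} (h : Commute a b) (ha : a * a = 1) (hb : b * b = 1) :
    a * b * (a * b) = 1 := by
  rw [h.symm.mul_mul_mul_comm, ha, hb, one_mul]

/-- A member moves what it does not commute with off its centraliser. -/
theorem not_commute_conj [Finite G] {D : Set G} (hD : Cfsg.IsOddTranspositionSet D) {a x : G}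
    (ha : a ∈ D) (hx : x ∈ D) (h : ¬ Commute a x) : ¬ Commute x (a * x * a⁻¹) := by
  intro hc
  rw [inv_eq hD.1 ha] at hc
  have hax : a * x * a ∈ D := by
    have := hD.1.conj_mem x hx a
    rwa [inv_eq hD.1 ha] at this
  have h4 : (a * x) ^ 2 ^ 2 = 1 := by
    rw [show (2 : ℕ) ^ 2 = 2 * 2 from rfl, pow_mul, pow_two (a * x), pow_two,
      show a * x * (a * x) = a * x * a * x from (mul_assoc _ _ _).symm]
    exact sq_mul hc.symm (mul_self hD.1 hax) (mul_self hD.1 hx)
  have h1 := CfsgLib.Invol.eq_one_of_odd_of_pow_two (oddAdj_of_not_commute hD ha hx h).2.2.2 h4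
  exact h (by rw [eq_inv_of_mul_eq_one_left h1, inv_eq hD.1 hx])

namespace Counter

variable {D : Set G} {d e g x w l : G} (C : Counter D d e g x w l)
include C

theorem d_ne_e : d ≠ e := fun h => C.ndg (h ▸ C.ceg)

theorem same_dl : Same D d l := same_of_line C.ot C.memd C.meml C.memdl C.cdl

theorem same_ddl : Same D d (d * l) := same_of_line' C.ot C.memd C.meml C.memdl C.cdl

theorem not_same_de : ¬ Same D d e := fun h => C.ndg ((h.iff C.memg).2 C.ceg)

theorem cdw : Commute d w ∧ Commute e w :=
  middle_commute C.ot C.memd C.meme C.memw C.d_ne_e C.cde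
    (oddAdj_of_not_commute C.ot C.memw C.memx C.nwx).2.2.2 C.mid

theorem de_sq : d * e * (d * e) = 1 :=
  sq_mul C.cde (mul_self C.ot.1 C.memd) (mul_self C.ot.1 C.meme)

theorem u_ne_one : d * e * w ≠ 1 := fun h =>
  C.not_same_de (same_of_line C.ot C.memd C.meme (by
    rw [eq_inv_of_mul_eq_one_left h, inv_eq C.ot.1 C.memw]; exact C.memw) C.cde)

theorem u_sq : d * e * w * (d * e * w) = 1 :=
  sq_mul (C.cdw.1.mul_left C.cdw.2) C.de_sq (mul_self C.ot.1 C.memw)

theorem u_x : Commute (d * e * w) x :=
  commute_mul_of_conj C.de_sq (by rw [inv_eq C.ot.1 C.memw]; exact C.mid)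

theorem u_of {a : G} (h1 : Commute a d) (h2 : Commute a e) (h3 : Commute a w) :
    Commute (d * e * w) a := ((h1.symm.mul_left h2.symm).mul_left h3.symm)

theorem u_d : Commute (d * e * w) d := C.u_of (Commute.refl d) C.cde C.cdw.1

theorem u_e : Commute (d * e * w) e := C.u_of C.cde.symm (Commute.refl e) C.cdw.2

theorem u_w : Commute (d * e * w) w := C.u_of C.cdw.1.symm C.cdw.2.symm (Commute.refl w)

theorem cel : Commute e l := ((C.same_dl.iff C.meme).1 C.cde).symm

theorem cwl : Commute w l := ((C.same_dl.iff C.memw).1 C.cdw.1).symm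

theorem cedl : Commute e (d * l) := C.cde.symm.mul_right C.cel

theorem u_l : Commute (d * e * w) l := C.u_of C.cdl.symm C.cel.symm C.cwl.symm

/-- Nothing but `1` centralises a path of length three from `d` to `x` through `e`. -/
theorem escape [Finite G] {v m : G} (hm : m ∈ D) (cme : Commute e m) (cmx : Commute m x)
    (vd : Commute v d) (vl : Commute v l) (ve : Commute v e) (vm : Commute v m)
    (vx : Commute v x) : v = 1 := by
  by_contra hv
  have hY := centre_inner C.ot.1 v
  have hlt : Subgroup.closure (centre D v) ≠ ⊤ := fun h => hv (C.centreless v fun f hf =>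
    commute_of_mem_closure_centre (fun _ ha => ha.2)
      (h ▸ Subgroup.mem_top f : f ∈ Subgroup.closure (centre D v)))
  by_cases hdm : Commute d m
  · exact C.none m hm hdm.symm cme.symm cmx
  obtain ⟨f, hf, a, b, c⟩ := goal_apply C.below C.ot hY hlt (d := d) (e := e) (g := m) (x := x)
    ⟨C.memd, vd⟩ ⟨C.meme, ve⟩ ⟨hm, vm⟩ ⟨C.memx, vx⟩
    ⟨l, ⟨C.meml, vl⟩, C.lne, C.cdl, ⟨C.memdl, vd.mul_right vl⟩⟩ C.cde cme cmx hdm C.nex C.ndx
  exact C.none f hf.1 a b c

/-- An involution centralising `d`, `e`, `x` moves `g` to a member commuting with it. -/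
theorem move [Finite G] {v : G} (hv : v * v = 1) (hv1 : v ≠ 1) (vd : Commute v d) (vl : Commute v l)
    (ve : Commute v e) (vx : Commute v x) :
    Commute e (v * g * v⁻¹) ∧ Commute g (v * g * v⁻¹) := by
  have hvi : v⁻¹ = v := inv_eq_of_mul_eq_one_right hv
  have he' : Commute e (v * g * v⁻¹) := conj_commute ve.symm C.ceg
  have hx' : Commute x (v * g * v⁻¹) := conj_commute vx.symm C.cgx.symm
  refine ⟨he', ?_⟩
  by_contra hno
  obtain ⟨m, hm, hmy, hmo⟩ := exists_mid C.ot C.memg (C.ot.1.conj_mem g C.memg v) hno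
  have hem : Commute e m := mid_commute C.ot C.memg hm hmo C.ceg (hmy ▸ he')
  have hxm : Commute x m := mid_commute C.ot C.memg hm hmo C.cgx.symm (hmy ▸ hx')
  have hvm : Commute v m := mid_commute_swap C.ot C.memg hm hmo hmy.symm (by
    rw [hmy, hvi, show v * (v * g * v) * v = v * v * g * (v * v) by simp only [mul_assoc], hv,
      one_mul, mul_one])
  exact hv1 (C.escape hm hem hxm.symm vd vl ve hvm vx)

theorem ngw : ¬ Commute g w := fun h => by
  have hy : Commute g (d * e * x * (d * e)⁻¹) := C.mid ▸ ((h.mul_right C.cgx).mul_right h)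
  have h1 := (commute_conj_iff (d * e)⁻¹).2 hy
  rw [show (d * e)⁻¹ * (d * e * x * (d * e)⁻¹) * (d * e)⁻¹⁻¹ = x by group,
    show (d * e)⁻¹ = d * e from inv_eq_of_mul_eq_one_right C.de_sq, conj_drop C.ceg,
    inv_eq C.ot.1 C.memd] at h1
  exact C.ndx (mid_commute C.ot C.memg C.memd C.ndg C.cgx.symm h1.symm).symm

theorem lined_e : Lined D e := by
  obtain ⟨k, -, hk⟩ := exists_conj C.ot C.memd C.memx C.ndx (Subgroup.mem_top d) (Subgroup.mem_top x)
  obtain ⟨k', -, hk'⟩ := exists_conj C.ot C.memx C.meme (fun h => C.nex h.symm)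
    (Subgroup.mem_top x) (Subgroup.mem_top e)
  have h0 : Lined D d := ⟨l, C.meml, C.lne, C.cdl, C.memdl⟩
  exact hk' ▸ lined_conj C.ot.1 (hk ▸ lined_conj C.ot.1 h0 k) k'

end Counter

end CfsgLib.RootInvol.OddTr
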