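import Cfsg.Agent.Lib.RootSub.OddTr.Transfer
import Cfsg.Agent.Lib.RootSub.Blocks.Main

/-!
# Odd transpositions with a disconnected commuting graph

If some member lies on a line and the commuting graph is disconnected, then commuting is transitive,
and members congruent modulo the kernel of the action on the components are joined by a two-group
fixing every component.
-/

set_option autoImplicit false

namespace CfsgLib.RootInvol.OddTr

universe u

variable {G : Type u} [Group G] {D : Set G}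

theorem step_symm {a b : G} (h : Step D a b) : Step D b a := ⟨h.2.1, h.1, h.2.2.symm⟩

theorem reach_symm {a b : G} (h : Reach D a b) : Reach D b a := by
  induction h with
  | refl => exact Relation.ReflTransGen.refl
  | tail _ hs ih => exact (Relation.ReflTransGen.single (step_symm hs)).trans ih

theorem reach_conj (hD : Cfsg.IsRootInvolutionSet D) {a b : G} (h : Reach D a b) (g : G) :
    Reach D (g * a * g⁻¹) (g * b * g⁻¹) := by
  induction h with
  | refl => exact Relation.ReflTransGen.refl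
  | tail _ hs ih =>
    exact ih.tail ⟨hD.conj_mem _ hs.1 g, hD.conj_mem _ hs.2.1 g, (commute_conj_iff g).2 hs.2.2⟩

/-- A line and a disconnected commuting graph. -/
structure IsSplit (D : Set G) : Prop where
  ot : Cfsg.IsOddTranspositionSet D
  lined : ∃ a ∈ D, Lined D a
  apart : ∃ a ∈ D, ∃ b ∈ D, ¬ Reach D a b

namespace IsSplit

variable (hS : IsSplit D)
include hS

theorem blockRel : IsBlockRel D (Reach D) where
  refl _ := Relation.ReflTransGen.refl
  symm h := reach_symm h
  trans h h' := Relation.ReflTransGen.trans h h'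
  conj g _ _ h := reach_conj hS.ot.1 h g
  of_commute ha hb h := Relation.ReflTransGen.single ⟨ha, hb, h⟩
  ne_univ := hS.apart

theorem exists_conj_eq {a b : G} (ha : a ∈ D) (hb : b ∈ D) : ∃ g : G, g * a * g⁻¹ = b := by
  obtain ⟨g, hg⟩ := (hS.blockRel.isRootInvolutionClass hS.ot.1).2.2 a ha b hb
  exact ⟨g, hg.symm⟩

theorem lined_of_mem {a : G} (ha : a ∈ D) : Lined D a := by
  obtain ⟨a₀, ha₀, hl⟩ := hS.lined
  obtain ⟨g, rfl⟩ := hS.exists_conj_eq ha₀ ha
  exact lined_conj hS.ot.1 hl g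

/-- The kernel of the action on the components. -/
def ker : Subgroup G where
  carrier := {g | ∀ e ∈ D, Reach D (g * e * g⁻¹) e}
  one_mem' e he := by simpa using hS.blockRel.refl he
  mul_mem' {g h} hg hh e he := by
    have := hS.blockRel.trans (hS.blockRel.conj g (hh e he)) (hg e he)
    simpa [mul_assoc] using this
  inv_mem' {g} hg e he := by
    have := hS.blockRel.symm (hS.blockRel.conj g⁻¹ (hg e he))
    simpa [mul_assoc] using this

theorem ker_normal : hS.ker.Normal :=
  ⟨fun n hn g e he => by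
    have := hS.blockRel.conj g (hn _ (hS.ot.1.conj_mem e he g⁻¹))
    simpa [mul_assoc] using this⟩

theorem not_mem_ker {a : G} (ha : a ∈ D) : a ∉ hS.ker := fun h => by
  obtain ⟨b, hb, hab⟩ := hS.blockRel.exists_not_rel ha
  exact hab (hS.blockRel.rel_of_fix hS.ot.1 ha hb (h b hb))

theorem reach_of_mul_mem {a b : G} (ha : a ∈ D) (hb : b ∈ D) (h : a * b ∈ hS.ker) : Reach D b a := by
  refine hS.blockRel.rel_of_fix hS.ot.1 hb ha ?_
  have h1 : a * (a * b) ∈ hS.blockRel.stab a ha :=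
    mul_mem (hS.blockRel.mem_stab_of_rel ha (hS.blockRel.refl ha)) (h a ha)
  rw [← mul_assoc, mul_self hS.ot.1 ha, one_mul] at h1
  exact h1

theorem mk_eq_iff [hN : hS.ker.Normal] {a b : G} (ha : a ∈ D) :
    QuotientGroup.mk' hS.ker a = QuotientGroup.mk' hS.ker b ↔ a * b ∈ hS.ker := by
  rw [QuotientGroup.mk'_apply, QuotientGroup.mk'_apply, QuotientGroup.eq, inv_eq hS.ot.1 ha]

theorem mem_image [hN : hS.ker.Normal] {a : G} (ha : a ∈ D) :
    QuotientGroup.mk' hS.ker a ∈ image hS.ker D :=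
  ⟨fun h => hS.not_mem_ker ha ((QuotientGroup.eq_one_iff a).1 h), a, ha, rfl⟩

/-- The components in the quotient. -/
def rel (hS : IsSplit D) : G ⧸ hS.ker → G ⧸ hS.ker → Prop :=
  fun p q => ∃ a ∈ D, ∃ b ∈ D,
    (a : G ⧸ hS.ker) = p ∧ (b : G ⧸ hS.ker) = q ∧ Reach D a b

variable [hN : hS.ker.Normal]

theorem reach_of_rel {a b : G} (ha : a ∈ D) (hb : b ∈ D)
    (h : hS.rel (QuotientGroup.mk' hS.ker a) (QuotientGroup.mk' hS.ker b)) : Reach D a b := by
  obtain ⟨a', ha', b', hb', e1, e2, h⟩ := h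
  have h1 := hS.reach_of_mul_mem ha' ha ((hS.mk_eq_iff ha').1 e1)
  have h2 := hS.reach_of_mul_mem hb' hb ((hS.mk_eq_iff hb').1 e2)
  exact (h1.trans h).trans (reach_symm h2)

theorem rel_blockRel [Finite G] : IsBlockRel (image hS.ker D) hS.rel where
  refl := by
    rintro _ ⟨-, a, ha, rfl⟩
    exact ⟨a, ha, a, ha, rfl, rfl, Relation.ReflTransGen.refl⟩
  symm := by
    rintro _ _ ⟨a, ha, b, hb, e1, e2, h⟩
    exact ⟨b, hb, a, ha, e2, e1, reach_symm h⟩
  trans := by
    rintro _ _ _ ⟨a, ha, b, hb, e1, e2, h⟩ ⟨b', hb', c, hc, e3, e4, h'⟩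
    have := hS.reach_of_mul_mem hb hb' ((hS.mk_eq_iff hb).1 (e2.trans e3.symm))
    exact ⟨a, ha, c, hc, e1, e4, (h.trans (reach_symm this)).trans h'⟩
  conj := by
    rintro g _ _ ⟨a, ha, b, hb, rfl, rfl, h⟩
    obtain ⟨g, rfl⟩ := QuotientGroup.mk'_surjective hS.ker g
    exact ⟨_, hS.ot.1.conj_mem a ha g, _, hS.ot.1.conj_mem b hb g, rfl, rfl, reach_conj hS.ot.1 h g⟩
  of_commute := by
    rintro _ _ ⟨-, a, ha, rfl⟩ ⟨-, b, hb, rfl⟩ h
    refine ⟨a, ha, b, hb, rfl, rfl, ?_⟩
    by_cases hab : Commute a b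
    · exact Relation.ReflTransGen.single ⟨ha, hb, hab⟩
    · exact reach_symm (hS.reach_of_mul_mem ha hb
        ((hS.mk_eq_iff ha).1 (mk_eq_of_commute hS.ker hS.ot ha hb hab h)))
  ne_univ := by
    obtain ⟨a, ha, b, hb, hab⟩ := hS.apart
    exact ⟨_, hS.mem_image ha, _, hS.mem_image hb, fun h => hab (hS.reach_of_rel ha hb h)⟩

theorem rel_faithful : IsFaithfulBlocks (image hS.ker D) hS.rel := by
  intro g hg
  obtain ⟨g, rfl⟩ := QuotientGroup.mk'_surjective hS.ker g
  refine (QuotientGroup.eq_one_iff g).2 fun e he => ?_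
  refine hS.reach_of_rel (hS.ot.1.conj_mem e he g) he ?_
  have := hg _ (hS.mem_image he)
  rwa [← map_inv, ← map_mul, ← map_mul] at this

variable [Finite G]

theorem rel_system : IsBlockSystem (image hS.ker D) hS.rel where
  root := (image_oddTr hS.ker hS.ot).1
  rel := hS.rel_blockRel
  prod ha hb hne hc :=
    hS.rel_blockRel.prod_mem hS.rel_faithful (image_oddTr hS.ker hS.ot).1 ha hb hne hc
  partner := by
    rintro _ ⟨-, a, ha, rfl⟩
    obtain ⟨b, hb, hne, hc, hab⟩ := hS.lined_of_mem ha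
    refine ⟨_, hS.mem_image hb, fun h => hS.not_mem_ker hab ((hS.mk_eq_iff ha).1 h.symm), ?_⟩
    rw [← map_mul, ← map_mul, hc.eq]

/-- Commuting is transitive. -/
theorem commute_of_reach {a b : G} (ha : a ∈ D) (hb : b ∈ D) (h : Reach D a b) : Commute a b := by
  by_contra hab
  have him : ∀ {p q : G}, p ∈ D → q ∈ D → Reach D p q →
      Commute (QuotientGroup.mk' hS.ker p) (QuotientGroup.mk' hS.ker q) := fun hp hq hpq =>
    hS.rel_system.commute_of_rel (hS.mem_image hp) (hS.mem_image hq)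
      ⟨_, hp, _, hq, rfl, rfl, hpq⟩
  obtain ⟨l, hl, hne, hc, hal⟩ := hS.lined_of_mem ha
  have hbl : ¬ Commute b l := fun hbl =>
    hab (((same_of_line hS.ot ha hl hal hc).iff hb).2 hbl.symm)
  have e1 := mk_eq_of_commute hS.ker hS.ot ha hb hab (him ha hb h)
  have hbl' : Reach D b l := (reach_symm h).trans (Relation.ReflTransGen.single ⟨ha, hl, hc⟩)
  have e2 := mk_eq_of_commute hS.ker hS.ot hb hl hbl (him hb hl hbl')
  exact hS.not_mem_ker hal ((hS.mk_eq_iff ha).1 (e1.trans e2))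

theorem clique {a b c : G} (ha : a ∈ D) (hb : b ∈ D) (hc : c ∈ D) (h : Commute a b)
    (h' : Commute b c) : Commute a c :=
  hS.commute_of_reach ha hc ((hS.blockRel.of_commute ha hb h).trans (hS.blockRel.of_commute hb hc h'))

theorem mem_ker_iff {v : G} : v ∈ hS.ker ↔ ∀ c ∈ D, Commute c (v * c * v⁻¹) :=
  ⟨fun h c hc => (hS.commute_of_reach (hS.ot.1.conj_mem c hc v) hc (h c hc)).symm,
    fun h c hc => hS.blockRel.of_commute (hS.ot.1.conj_mem c hc v) hc (h c hc).symm.eq⟩

/-- A translation by two members of one component keeping a third near itself is in the kernel. -/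
theorem mul_mem_ker {a b c : G} (ha : a ∈ D) (hb : b ∈ D) (hc : c ∈ D) (hab : Commute a b)
    (hac : ¬ Commute a c) (h : Commute c (a * b * c * (a * b)⁻¹)) : a * b ∈ hS.ker := by
  by_contra hno
  have hD' := (image_oddTr hS.ker hS.ot).1
  set π := QuotientGroup.mk' hS.ker with hπ
  have hne : π a ≠ π b := fun e => hno ((hS.mk_eq_iff ha).1 e)
  have hπab : π a * π b = π b * π a := by rw [← map_mul, ← map_mul, hab.eq]
  have hm : π a * π b ∈ image hS.ker D :=
    hS.rel_blockRel.prod_mem hS.rel_faithful hD' (hS.mem_image ha) (hS.mem_image hb) hne hπab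
  have hma : hS.rel (π a * π b) (π a) := hS.rel_blockRel.of_commute hm (hS.mem_image ha)
    (Commute.mul_left (Commute.refl (π a)) (show Commute (π b) (π a) from hπab.symm)).eq
  have hfix : hS.rel (π a * π b * π c * (π a * π b)⁻¹) (π c) := by
    refine hS.rel_blockRel.of_commute (hD'.conj_mem _ (hS.mem_image hc) _) (hS.mem_image hc) ?_
    rw [← map_mul π a b, ← map_inv, ← map_mul, ← map_mul, ← map_mul, ← map_mul, h.eq]
  have hmc := hS.rel_blockRel.rel_of_fix hD' hm (hS.mem_image hc) hfix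
  exact hac (hS.commute_of_reach ha hc
    (hS.reach_of_rel ha hc (hS.rel_blockRel.trans (hS.rel_blockRel.symm hma) hmc)))

omit hN in
/-- The two-group joining congruent members. -/
theorem exists_twoGroup : ∃ P : Subgroup G, IsPGroup 2 P ∧ (∀ p ∈ P, p ∈ hS.ker) ∧
    ∀ a ∈ D, ∀ b ∈ D, Commute a b → a * b ∈ hS.ker → ∃ p ∈ P, p * a * p⁻¹ = b := by
  have := hS.ker_normal
  set S : Set G := {v | ∃ a ∈ D, ∃ b ∈ D, Commute a b ∧ v = a * b ∧ v ∈ hS.ker} with hSdef
  set P := Subgroup.normalClosure S with hP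
  have hPN : P ≤ hS.ker := Subgroup.normalClosure_le_normal (by rintro v ⟨a, -, b, -, -, -, h⟩; exact h)
  obtain ⟨Q⟩ := (inferInstance : Nonempty (Sylow 2 hS.ker))
  have hSQ : ∀ v ∈ S, v ∈ (Q : Subgroup hS.ker).map hS.ker.subtype := by
    rintro v ⟨a, ha, b, hb, hab, rfl, hk⟩
    set X : Set G := {z | ∃ p ∈ D, ∃ q ∈ D, Commute a p ∧ Commute a q ∧ z = p * q ∧ z ∈ hS.ker}
      with hX
    set W := (Subgroup.closure X).subgroupOf hS.ker with hW
    have hXc : ∀ z ∈ X, ∀ z' ∈ X, z * z' = z' * z ∧ z * z = 1 := by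
      rintro z ⟨p, hp, q, hq, cp, cq, rfl, -⟩ z' ⟨p', hp', q', hq', cp', cq', rfl, -⟩
      have c1 := hS.clique hp ha hq cp.symm cq
      have c2 := hS.clique hp ha hp' cp.symm cp'
      have c3 := hS.clique hp ha hq' cp.symm cq'
      have c4 := hS.clique hq ha hp' cq.symm cp'
      have c5 := hS.clique hq ha hq' cq.symm cq'
      refine ⟨((c2.mul_right c3).mul_left (c4.mul_right c5)).eq, ?_⟩
      rw [c1.symm.mul_mul_mul_comm, mul_self hS.ot.1 hp, mul_self hS.ot.1 hq, one_mul]
    have hWp : IsPGroup 2 W := by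
      intro g
      have hg : (g.1 : G) ∈ Subgroup.closure X := g.2
      refine ⟨1, Subtype.ext (Subtype.ext ?_)⟩
      rw [pow_one, pow_two]
      show (g.1 : G) * (g.1 : G) = 1
      have hcomm : ∀ z ∈ Subgroup.closure X, ∀ z' ∈ Subgroup.closure X, Commute z z' := by
        intro z hz z' hz'
        induction hz, hz' using Subgroup.closure_induction₂ with
        | mem x y hx hy => exact (hXc x hx y hy).1
        | one_left x _ => exact Commute.one_left x
        | one_right x _ => exact Commute.one_right x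
        | mul_left x y z _ _ _ h₁ h₂ => exact h₁.mul_left h₂
        | mul_right x y z _ _ _ h₁ h₂ => exact h₁.mul_right h₂
        | inv_left x y _ _ h => exact h.inv_left
        | inv_right x y _ _ h => exact h.inv_right
      suffices h : ∀ z ∈ Subgroup.closure X, z * z = 1 from h _ hg
      intro z hz
      induction hz using Subgroup.closure_induction with
      | mem x hx => exact (hXc x hx x hx).2
      | one => exact one_mul 1
      | mul x y hx hy h₁ h₂ => rw [(hcomm y hy x hx).mul_mul_mul_comm, h₁, h₂, one_mul]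
      | inv x _ h => rw [← mul_inv_rev, h, inv_one]
    have hWn : W.Normal := by
      refine ⟨fun z hz n => ?_⟩
      show (n : G) * (z : G) * (n : G)⁻¹ ∈ Subgroup.closure X
      have hle : Subgroup.closure X ≤
          (Subgroup.closure X).comap (MulAut.conj (n : G)).toMonoidHom := by
        rw [Subgroup.closure_le]
        rintro w ⟨p, hp, q, hq, cp, cq, rfl, hw⟩
        have hk' : ∀ r ∈ D, Commute a r → Commute a ((n : G) * r * (n : G)⁻¹) := fun r hr car =>
          hS.clique ha hr (hS.ot.1.conj_mem r hr _) car (hS.mem_ker_iff.1 n.2 r hr)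
        refine Subgroup.subset_closure ⟨_, hS.ot.1.conj_mem p hp _, _, hS.ot.1.conj_mem q hq _,
          hk' p hp cp, hk' q hq cq, ?_, ?_⟩
        · simp only [MulEquiv.coe_toMonoidHom, MulAut.conj_apply]
          group
        · exact hS.ker_normal.conj_mem _ hw _
      exact hle hz
    exact ⟨⟨a * b, hk⟩, hWp.le_sylow_of_normal Q (show (⟨a * b, hk⟩ : hS.ker) ∈ W from
      Subgroup.subset_closure ⟨a, ha, b, hb, Commute.refl a, hab, rfl, hk⟩), rfl⟩
  have hP2 : IsPGroup 2 P := by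
    refine (Q.isPGroup'.map hS.ker.subtype).to_le ?_
    rw [hP, Subgroup.normalClosure, Subgroup.closure_le]
    intro v hv
    obtain ⟨s, ⟨a, ha, b, hb, hab, rfl, hk⟩, hconj⟩ := Group.mem_conjugatesOfSet_iff.1 hv
    obtain ⟨g, rfl⟩ := isConj_iff.1 hconj
    exact hSQ _ ⟨_, hS.ot.1.conj_mem a ha g, _, hS.ot.1.conj_mem b hb g, (commute_conj_iff g).2 hab,
      by group, hS.ker_normal.conj_mem _ hk g⟩
  refine ⟨P, hP2, fun p hp => hPN hp, fun a ha b hb hab hk => ?_⟩
  have : P.Normal := Subgroup.normalClosure_normal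
  obtain ⟨c, hc, hac⟩ := hS.blockRel.exists_not_rel ha
  have hac' : ¬ Commute a c := fun h => hac (hS.blockRel.of_commute ha hc h)
  have hbc : ¬ Commute b c := fun h => hac' (hS.clique ha hb hc hab h)
  obtain ⟨w₁, hw₁, e₁, o₁⟩ := exists_mid hS.ot hc ha (fun h => hac' h.symm)
  obtain ⟨w₂, hw₂, e₂, o₂⟩ := exists_mid hS.ot hc hb (fun h => hbc h.symm)
  have hmem : a * b ∈ P := Subgroup.subset_normalClosure ⟨a, ha, b, hb, hab, rfl, hk⟩
  have heq : QuotientGroup.mk' P w₂ = QuotientGroup.mk' P w₁ := by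
    have hne : ∀ w ∈ D, QuotientGroup.mk' P w ≠ 1 := fun w hw h =>
      hS.not_mem_ker hw (hPN ((QuotientGroup.eq_one_iff w).1 h))
    refine eq_of_conj_eq (image_oddTr P hS.ot).1 (r := QuotientGroup.mk' P c)
      ⟨hne _ hw₂, w₂, hw₂, rfl⟩ ⟨hne _ hw₁, w₁, hw₁, rfl⟩ ?_ ?_ ?_
    · rw [← map_mul]
      exact (oddAdj_of_not_commute hS.ot hw₂ hc o₂).2.2.2.of_dvd_nat (orderOf_map_dvd _ _)
    · rw [← map_mul]
      exact (oddAdj_of_not_commute hS.ot hw₁ hc o₁).2.2.2.of_dvd_nat (orderOf_map_dvd _ _)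
    · rw [← map_mul, ← map_mul, ← map_mul, ← map_mul, e₁, e₂, QuotientGroup.mk'_apply,
        QuotientGroup.mk'_apply, QuotientGroup.eq, inv_eq hS.ot.1 hb]
      exact hab.eq ▸ hmem
  refine ⟨w₂ * w₁, ?_, ?_⟩
  · rw [← QuotientGroup.eq_one_iff (N := P)]
    show QuotientGroup.mk' P (w₂ * w₁) = 1
    rw [map_mul, heq, ← map_mul, mul_self hS.ot.1 hw₁, map_one]
  · have h1 : w₁ * a * w₁ = c := by
      rw [← e₁, show w₁ * (w₁ * c * w₁) * w₁ = w₁ * w₁ * c * (w₁ * w₁) by simp only [mul_assoc],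
        mul_self hS.ot.1 hw₁, one_mul, mul_one]
    rw [mul_inv_rev, inv_eq hS.ot.1 hw₁, inv_eq hS.ot.1 hw₂,
      show w₂ * w₁ * a * (w₁ * w₂) = w₂ * (w₁ * a * w₁) * w₂ by simp only [mul_assoc], h1, e₂]

end IsSplit

end CfsgLib.RootInvol.OddTr
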