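import Cfsg.Agent.Lib.RootSub.OddTr.Counter

/-!
# The two systems of blocks of a counterexample

`outer`: the members commuting with `u = d e w`.  `nearE`: the members commuting with `e` other than
those with the same commuting members as `e`.  A member commuting with two classes of the block of `d`
in `outer` lies in that block, and products of non-congruent members of one class are members.
-/

set_option autoImplicit false

namespace CfsgLib.RootInvol.OddTr

universe u

variable {G : Type u} [Group G]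

/-- The members commuting with `e` that do not have the same commuting members as `e`. -/
def near (D : Set G) (e : G) : Set G := {a | a ∈ D ∧ Commute e a ∧ ¬ Same D a e}

theorem near_inner {D : Set G} (hD : Cfsg.IsRootInvolutionSet D) (e : G) :
    IsInner D (near D e) where
  sub _ h := h.1
  conj k hk b hb := by
    have hek := commute_of_mem_closure_centre (v := e) (fun _ ha => ha.2.1) hk
    refine ⟨hD.conj_mem b hb.1 k, conj_commute hek hb.2.1, fun h => hb.2.2 ?_⟩
    have h2 := h.conj hD k⁻¹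
    rwa [show k⁻¹ * (k * b * k⁻¹) * k⁻¹⁻¹ = b by group,
      conj_eq_self_iff.2 hek.symm.inv_left] at h2

/-- The block of `d` among the members commuting with `v`. -/
def InBlock (D : Set G) (v d a : G) : Prop := a ∈ centre D v ∧ Commute a d

namespace Counter

variable {D : Set G} {d e g x w l : G} [Finite G] (C : Counter D d e g x w l)
include C

theorem outer : IsBlocks D (centre D (d * e * w)) := by
  have hl : Lined (centre D (d * e * w)) d :=
    ⟨l, ⟨C.meml, C.u_l⟩, C.lne, C.cdl, ⟨C.memdl, C.u_d.mul_right C.u_l⟩⟩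
  refine isBlocks C.ot (centre_inner C.ot.1 _) (a₀ := d) (b₀ := x) ⟨C.memd, C.u_d⟩ hl
    ⟨C.memx, C.u_x⟩ fun hr => ?_
  have hlt : Subgroup.closure (centre D (d * e * w)) ≠ ⊤ := fun h =>
    C.u_ne_one (C.centreless _ fun f hf => commute_of_mem_closure_centre (fun _ ha => ha.2)
      (h ▸ Subgroup.mem_top f : f ∈ Subgroup.closure (centre D (d * e * w))))
  obtain ⟨f, hf, a, b, c⟩ := common₃_inner C.below C.ot (centre_inner C.ot.1 _) hlt
    (d := d) (e := e) (x := x) ⟨C.memd, C.u_d⟩ ⟨C.meme, C.u_e⟩ ⟨C.memx, C.u_x⟩ hl C.cde C.nex C.ndx hr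
  exact C.none f hf.1 a b c

theorem b_d : InBlock D (d * e * w) d d := ⟨⟨C.memd, C.u_d⟩, Commute.refl d⟩

theorem b_e : InBlock D (d * e * w) d e := ⟨⟨C.meme, C.u_e⟩, C.cde.symm⟩

theorem b_w : InBlock D (d * e * w) d w := ⟨⟨C.memw, C.u_w⟩, C.cdw.1.symm⟩

theorem b_l : InBlock D (d * e * w) d l := ⟨⟨C.meml, C.u_l⟩, C.cdl.symm⟩

theorem b_comm {a b : G} (ha : InBlock D (d * e * w) d a) (hb : InBlock D (d * e * w) d b) :
    Commute a b :=
  C.outer.clique ha.1 ⟨C.memd, C.u_d⟩ hb.1 ha.2 hb.2.symm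

theorem b_x {a : G} (ha : InBlock D (d * e * w) d a) : ¬ Commute a x := fun h =>
  C.ndx (C.outer.clique ⟨C.memd, C.u_d⟩ ha.1 ⟨C.memx, C.u_x⟩ ha.2.symm h)

theorem b_of {a : G} (ha : a ∈ D) (h1 : Commute a d) (h2 : Commute a e) (h3 : Commute a w) :
    InBlock D (d * e * w) d a := ⟨⟨ha, C.u_of h1 h2 h3⟩, h1⟩

theorem b_same {a b : G} (ha : InBlock D (d * e * w) d a) (hb : b ∈ D) (h : Same D a b) :
    InBlock D (d * e * w) d b :=
  C.b_of hb ((h.iff C.memd).1 ha.2) ((h.iff C.meme).1 (C.b_comm ha C.b_e))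
    ((h.iff C.memw).1 (C.b_comm ha C.b_w))

theorem near_d : d ∈ near D e := ⟨C.memd, C.cde.symm, C.not_same_de⟩

theorem near_g : g ∈ near D e :=
  ⟨C.memg, C.ceg, fun h => C.nex ((h.iff C.memx).1 C.cgx)⟩

theorem near_w : w ∈ near D e :=
  ⟨C.memw, C.cdw.2, fun h => C.ngw ((h.iff C.memg).2 C.ceg).symm⟩

theorem near_lt : Subgroup.closure (near D e) ≠ ⊤ := fun h =>
  CfsgLib.Invol.invol_ne_one (C.ot.1.orderOf_eq e C.meme) (C.centreless e fun f hf =>
    commute_of_mem_closure_centre (fun _ ha => ha.2.1)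
      (h ▸ Subgroup.mem_top f : f ∈ Subgroup.closure (near D e)))

theorem lined_near : Lined (near D e) d :=
  ⟨l, ⟨C.meml, C.cel, fun h => C.not_same_de (C.same_dl.trans h)⟩, C.lne, C.cdl,
    ⟨C.memdl, C.cedl, fun h => C.not_same_de (C.same_ddl.trans h)⟩⟩

/-- `d` and `g` are not joined among the members commuting with `e`. -/
theorem not_reach_near : ¬ Reach (near D e) d g := fun hr => by
  obtain ⟨r, hr, crd, crw, crg⟩ := common₃_inner C.below C.ot (near_inner C.ot.1 e) C.near_lt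
    (d := d) (e := w) (x := g) C.near_d C.near_w C.near_g C.lined_near C.cdw.1
    (fun h => C.ngw h.symm) C.ndg hr
  have hrb := C.b_of hr.1 crd hr.2.1.symm crw
  obtain ⟨a, ha, hea, hla, hsh⟩ :=
    exists_shift C.ot C.meme hr.1 C.memx C.lined_e hr.2.1 C.nex
  have hab := C.b_same C.b_e ha hea
  have car := C.b_comm hab hrb
  have hne : a ≠ r := fun h => hr.2.2 (h ▸ hea).symm
  obtain ⟨w', hw', hwy, hwo⟩ := exists_mid C.ot C.memx (C.ot.1.conj_mem x C.memx _) hsh
  obtain ⟨caw, crw'⟩ := middle_commute C.ot ha hr.1 hw' hne car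
    (oddAdj_of_not_commute C.ot hw' C.memx hwo).2.2.2 hwy
  have huw : Commute (d * e * w) w' := mid_commute C.ot C.memx hw' hwo C.u_x
    (hwy ▸ conj_commute (hab.1.2.mul_right hrb.1.2) C.u_x)
  have hwb : InBlock D (d * e * w) d w' :=
    ⟨⟨hw', huw⟩, C.outer.clique ⟨hw', huw⟩ hrb.1 ⟨C.memd, C.u_d⟩ crw'.symm crd⟩
  have cga : Commute g a := ((hea.iff C.memg).1 C.ceg).symm
  have hgw' : Commute g w' := mid_commute C.ot C.memx hw' hwo C.cgx
    (hwy ▸ conj_commute (cga.mul_right crg.symm) C.cgx)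
  have hv : ∀ b, InBlock D (d * e * w) d b → Commute (a * r * w') b := fun b hb =>
    ((C.b_comm hab hb).mul_left (C.b_comm hrb hb)).mul_left (C.b_comm hwb hb)
  have hv1 := C.escape C.memg C.ceg C.cgx (hv d C.b_d) (hv l C.b_l) (hv e C.b_e)
    ((cga.symm.mul_left crg).mul_left hgw'.symm)
    (commute_mul_of_conj (sq_mul car (mul_self C.ot.1 ha) (mul_self C.ot.1 hr.1))
      (by rw [inv_eq C.ot.1 hw']; exact hwy))
  refine hr.2.2 ((same_of_line C.ot ha hr.1 ?_ car).symm.trans hea.symm)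
  rw [eq_inv_of_mul_eq_one_left hv1, inv_eq C.ot.1 hw']
  exact hw'

theorem nearE : IsBlocks D (near D e) :=
  isBlocks C.ot (near_inner C.ot.1 e) C.near_d C.lined_near C.near_g C.not_reach_near

theorem b_of_near {a : G} (ha : a ∈ near D e) (h : Commute a d) : InBlock D (d * e * w) d a :=
  C.b_of ha.1 h ha.2.1.symm (C.nearE.clique ha C.near_d C.near_w h C.cdw.1)

theorem b_conj {a k : G} (ha : InBlock D (d * e * w) d a)
    (hk : k ∈ Subgroup.closure (centre D (d * e * w))) (hka : k * e * k⁻¹ = a) {b : G}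
    (hb : InBlock D (d * e * w) d b) :
    InBlock D (d * e * w) d (k * b * k⁻¹) ∧ InBlock D (d * e * w) d (k⁻¹ * b * k) := by
  have hY := C.outer.inner
  have h1 : k * b * k⁻¹ ∈ centre D (d * e * w) := hY.conj k hk b hb.1
  have h2 : k⁻¹ * b * k ∈ centre D (d * e * w) := by simpa using hY.conj k⁻¹ (inv_mem hk) b hb.1
  refine ⟨⟨h1, C.outer.clique h1 ha.1 ⟨C.memd, C.u_d⟩ ?_ ha.2⟩,
    ⟨h2, C.outer.clique h2 ⟨C.meme, C.u_e⟩ ⟨C.memd, C.u_d⟩ ?_ C.cde.symm⟩⟩
  · rw [← hka]
    exact (commute_conj_iff k).2 (C.b_comm hb C.b_e)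
  · have h := (commute_conj_iff k⁻¹).2 (C.b_comm hb ha)
    rwa [← hka, show k⁻¹ * b * k⁻¹⁻¹ = k⁻¹ * b * k by group,
      show k⁻¹ * (k * e * k⁻¹) * k⁻¹⁻¹ = e by group] at h

/-- A member commuting with two classes of the block lies in the block. -/
theorem b_line {k a b : G} (hk : k ∈ D) (ha : InBlock D (d * e * w) d a)
    (hb : InBlock D (d * e * w) d b) (hab : ¬ Same D a b) (hka : Commute k a) (hkb : Commute k b) :
    InBlock D (d * e * w) d k := by
  have base : ∀ {k b : G}, k ∈ D → InBlock D (d * e * w) d b → ¬ Same D b e → Commute k e →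
      Commute k b → InBlock D (d * e * w) d k := by
    intro k b hk hb hbe hke hkb
    by_cases hs : Same D k e
    · exact C.b_same C.b_e hk hs.symm
    · have hkn : k ∈ near D e := ⟨hk, hke.symm, hs⟩
      exact C.b_of_near hkn
        (C.nearE.clique hkn ⟨hb.1.1, C.b_comm C.b_e hb, hbe⟩ C.near_d hkb hb.2)
  obtain ⟨h, hh, hha⟩ := C.outer.isConj C.b_e.1 ha.1
  have h' := base (k := h⁻¹ * k * h) (b := h⁻¹ * b * h) (by simpa using C.ot.1.conj_mem k hk h⁻¹)
    (C.b_conj ha hh hha hb).2 (fun hs => hab (by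
      have h2 := (hs.conj C.ot.1 h).symm
      rwa [hha, show h * (h⁻¹ * b * h) * h⁻¹ = b by group] at h2))
    (by
      rw [← commute_conj_iff h, hha, show h * (h⁻¹ * k * h) * h⁻¹ = k by group]
      exact hka)
    (by
      rw [← commute_conj_iff h, show h * (h⁻¹ * b * h) * h⁻¹ = b by group,
        show h * (h⁻¹ * k * h) * h⁻¹ = k by group]
      exact hkb)
  have := (C.b_conj ha hh hha h').1
  rwa [show h * (h⁻¹ * k * h) * h⁻¹ = k by group] at this

/-- Products of non-congruent members of one class are members. -/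
theorem b_closed {a b : G} (ha : InBlock D (d * e * w) d a) (hb : InBlock D (d * e * w) d b)
    (hab : Same D a b) (hm : ¬ Mate (centre D (d * e * w)) a b) : a * b ∈ D := by
  have base : ∀ {a b : G}, InBlock D (d * e * w) d a → InBlock D (d * e * w) d b →
      Same D a e → Same D b e → ¬ Mate (centre D (d * e * w)) a b → a * b ∈ D := by
    intro a b ha hb hae hbe hm
    have cab := C.b_comm ha hb
    have hne : a ≠ b := fun h => hm (h ▸ C.outer.mate_refl C.ot.1 ha.1)
    have hno : ¬ Commute x (a * b * x * (a * b)⁻¹) := fun h =>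
      hm ⟨ha.1, hb.1, cab, C.outer.kern_of ha.1 hb.1 ⟨C.memx, C.u_x⟩ cab (C.b_x ha) h⟩
    obtain ⟨w', hw', hwy, hwo⟩ := exists_mid C.ot C.memx (C.ot.1.conj_mem x C.memx _) hno
    obtain ⟨caw, cbw⟩ := middle_commute C.ot ha.1.1 hb.1.1 hw' hne cab
      (oddAdj_of_not_commute C.ot hw' C.memx hwo).2.2.2 hwy
    have huw : Commute (d * e * w) w' := mid_commute C.ot C.memx hw' hwo C.u_x
      (hwy ▸ conj_commute (ha.1.2.mul_right hb.1.2) C.u_x)
    have hwb : InBlock D (d * e * w) d w' :=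
      ⟨⟨hw', huw⟩, C.outer.clique ⟨hw', huw⟩ ha.1 ⟨C.memd, C.u_d⟩ caw.symm ha.2⟩
    have cga : Commute g a := ((hae.iff C.memg).2 C.ceg).symm
    have cgb : Commute g b := ((hbe.iff C.memg).2 C.ceg).symm
    have hgw' : Commute g w' := mid_commute C.ot C.memx hw' hwo C.cgx
      (hwy ▸ conj_commute (cga.mul_right cgb) C.cgx)
    have hv : ∀ c, InBlock D (d * e * w) d c → Commute (a * b * w') c := fun c hc =>
      ((C.b_comm ha hc).mul_left (C.b_comm hb hc)).mul_left (C.b_comm hwb hc)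
    have hv1 := C.escape C.memg C.ceg C.cgx (hv d C.b_d) (hv l C.b_l) (hv e C.b_e)
      ((cga.symm.mul_left cgb.symm).mul_left hgw'.symm)
      (commute_mul_of_conj (sq_mul cab (mul_self C.ot.1 ha.1.1) (mul_self C.ot.1 hb.1.1))
        (by rw [inv_eq C.ot.1 hw']; exact hwy))
    rw [eq_inv_of_mul_eq_one_left hv1, inv_eq C.ot.1 hw']
    exact hw'
  obtain ⟨h, hh, hha⟩ := C.outer.isConj C.b_e.1 ha.1
  have hba : Same D (h⁻¹ * b * h) e := by
    have h2 := (show Same D b a from hab.symm).conj C.ot.1 h⁻¹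
    rwa [← hha, show h⁻¹ * (h * e * h⁻¹) * h⁻¹⁻¹ = e by group,
      show h⁻¹ * b * h⁻¹⁻¹ = h⁻¹ * b * h by group] at h2
  have h' := base C.b_e (C.b_conj ha hh hha hb).2 rfl hba (fun hmm => hm (by
    have h2 := C.outer.mate_conj hmm hh
    rwa [hha, show h * (h⁻¹ * b * h) * h⁻¹ = b by group] at h2))
  have h3 := C.ot.1.conj_mem _ h' h
  rwa [show h * (e * (h⁻¹ * b * h)) * h⁻¹ = h * e * h⁻¹ * b by group, hha] at h3

end Counter

end CfsgLib.RootInvol.OddTr
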