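import Cfsg.Agent.Lib.RootSub.OddTr.Basic

/-!
# Odd transpositions in subgroups and quotients
-/

set_option autoImplicit false

namespace CfsgLib.RootInvol.OddTr

universe u

variable {G : Type u} [Group G] {D : Set G}

/-- The statement for all smaller groups. -/
def GoalBelow (n : ℕ) : Prop :=
  ∀ (H : Type u) [Group H] [Finite H] (D : Set H), Nat.card H < n →
    Cfsg.IsOddTranspositionSet D → Goal D

/-- A set of members, invariant under the subgroup it generates. -/
structure IsInner (D Y : Set G) : Prop where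
  sub : Y ⊆ D
  conj : ∀ g ∈ Subgroup.closure Y, ∀ b ∈ Y, g * b * g⁻¹ ∈ Y

/-- The set `Y` inside the subgroup it generates. -/
def inner (Y : Set G) : Set ↥(Subgroup.closure Y) := Subtype.val ⁻¹' Y

/-- A member as an element of the subgroup. -/
def lift {Y : Set G} {a : G} (ha : a ∈ Y) : ↥(Subgroup.closure Y) := ⟨a, Subgroup.subset_closure ha⟩

theorem inner_oddTr (hD : Cfsg.IsOddTranspositionSet D) {Y : Set G} (hY : IsInner D Y) :
    Cfsg.IsOddTranspositionSet (inner Y) := by
  refine ⟨⟨fun e he => ?_, Subgroup.closure_closure_coe_preimage,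
    fun e he g => hY.conj _ g.2 _ he, fun a ha b hb => ?_⟩, fun a ha b hb h => ?_⟩
  · rw [← Subgroup.orderOf_coe]; exact hD.1.orderOf_eq _ (hY.sub he)
  · rcases commute_or_odd hD (hY.sub ha) (hY.sub hb) with h | h
    · exact Or.inl (Subtype.ext h.eq)
    · exact Or.inr (Or.inl (by rw [← Subgroup.orderOf_coe]; exact h))
  · rw [← Subgroup.orderOf_coe] at h
    exact hD.2 _ (hY.sub ha) _ (hY.sub hb) h

theorem commute_coe_iff {H : Subgroup G} {a b : ↥H} : Commute (a : G) b ↔ Commute a b :=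
  ⟨fun h => Subtype.ext h.eq, fun h => congrArg Subtype.val h.eq⟩

theorem lined_inner {Y : Set G} {a : G} (ha : a ∈ Y) (h : Lined Y a) :
    Lined (inner Y) (lift ha) := by
  obtain ⟨b, hb, hne, hc, hp⟩ := h
  exact ⟨lift hb, hb, fun e => hne (congrArg Subtype.val e), Subtype.ext hc.eq, hp⟩

theorem reach_mem {a b : G} (ha : a ∈ D) (h : Reach D a b) : b ∈ D := by
  induction h with
  | refl => exact ha
  | tail _ hs _ => exact hs.2.1

theorem reach_inner {Y : Set G} {a b : G} (ha : a ∈ Y) (hb : b ∈ Y) (h : Reach Y a b) :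
    Reach (inner Y) (lift ha) (lift hb) := by
  induction h with
  | refl => exact Relation.ReflTransGen.refl
  | @tail y y' _ hs ih => exact (ih hs.1).tail ⟨hs.1, hb, Subtype.ext hs.2.2.eq⟩

theorem goal_inner [Finite G] (hIH : GoalBelow.{u} (Nat.card G))
    (hD : Cfsg.IsOddTranspositionSet D) {Y : Set G} (hY : IsInner D Y)
    (hlt : Subgroup.closure Y ≠ ⊤) : Goal (inner Y) := by
  refine hIH _ _ ?_ (inner_oddTr hD hY)
  refine lt_of_le_of_ne (Subgroup.card_le_card_group _) fun h => hlt ?_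
  exact Subgroup.eq_top_of_card_eq _ h

theorem goal_apply [Finite G] (hIH : GoalBelow.{u} (Nat.card G))
    (hD : Cfsg.IsOddTranspositionSet D) {Y : Set G} (hY : IsInner D Y)
    (hlt : Subgroup.closure Y ≠ ⊤) {d e g x : G} (hd : d ∈ Y) (he : e ∈ Y) (hg : g ∈ Y) (hx : x ∈ Y)
    (hl : Lined Y d) (hde : Commute d e) (heg : Commute e g) (hgx : Commute g x)
    (hdg : ¬ Commute d g) (hex : ¬ Commute e x) (hdx : ¬ Commute d x) :
    ∃ f ∈ Y, Commute f d ∧ Commute f e ∧ Commute f x := by
  obtain ⟨f, hf, a, b, c⟩ := goal_inner hIH hD hY hlt (d := lift hd) (e := lift he) (g := lift hg)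
    (x := lift hx) hd he hg hx (lined_inner hd hl) (commute_coe_iff.1 hde) (commute_coe_iff.1 heg)
    (commute_coe_iff.1 hgx) (fun h => hdg (commute_coe_iff.2 h)) (fun h => hex (commute_coe_iff.2 h))
    (fun h => hdx (commute_coe_iff.2 h))
  exact ⟨f, hf, commute_coe_iff.2 a, commute_coe_iff.2 b, commute_coe_iff.2 c⟩

theorem common₃_inner [Finite G] (hIH : GoalBelow.{u} (Nat.card G))
    (hD : Cfsg.IsOddTranspositionSet D) {Y : Set G} (hY : IsInner D Y)
    (hlt : Subgroup.closure Y ≠ ⊤) {d e x : G} (hd : d ∈ Y) (he : e ∈ Y) (hx : x ∈ Y)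
    (hl : Lined Y d) (hde : Commute d e) (hex : ¬ Commute e x) (hdx : ¬ Commute d x)
    (hr : Reach Y d x) : ∃ f ∈ Y, Commute f d ∧ Commute f e ∧ Commute f x := by
  obtain ⟨f, hf, a, b, c⟩ := common₃ (inner_oddTr hD hY) (goal_inner hIH hD hY hlt)
    (d := lift hd) (e := lift he) (x := lift hx) hd he hx (lined_inner hd hl)
    (commute_coe_iff.1 hde) (fun h => hex (commute_coe_iff.2 h))
    (fun h => hdx (commute_coe_iff.2 h)) (reach_inner hd hx hr)
  exact ⟨f, hf, commute_coe_iff.2 a, commute_coe_iff.2 b, commute_coe_iff.2 c⟩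

section Quotient

variable (N : Subgroup G) [N.Normal]

/-- The nontrivial images of the members. -/
def image (D : Set G) : Set (G ⧸ N) := {q | q ≠ 1 ∧ ∃ a ∈ D, QuotientGroup.mk' N a = q}

theorem image_oddTr (hD : Cfsg.IsOddTranspositionSet D) :
    Cfsg.IsOddTranspositionSet (image N D) := by
  have hdich : ∀ p ∈ image N D, ∀ q ∈ image N D, p * q = q * p ∨ Odd (orderOf (p * q)) := by
    rintro _ ⟨-, a, ha, rfl⟩ _ ⟨-, b, hb, rfl⟩
    rcases commute_or_odd hD ha hb with h | h
    · exact Or.inl (by rw [← map_mul, ← map_mul, h.eq])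
    · exact Or.inr (by rw [← map_mul]; exact h.of_dvd_nat (orderOf_map_dvd _ _))
  have hord : ∀ p ∈ image N D, orderOf p = 2 := by
    rintro _ ⟨h1, a, ha, rfl⟩
    refine orderOf_eq_prime ?_ h1
    rw [← map_pow, pow_two, mul_self hD.1 ha, map_one]
  refine ⟨⟨hord, ?_, ?_, fun p hp q hq => (hdich p hp q hq).imp_right Or.inl⟩, fun p hp q hq h => ?_⟩
  · rw [eq_top_iff, ← Subgroup.map_top_of_surjective _ (QuotientGroup.mk'_surjective N),
      ← hD.1.generates, MonoidHom.map_closure, Subgroup.closure_le]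
    rintro _ ⟨a, ha, rfl⟩
    by_cases h : QuotientGroup.mk' N a = 1
    · rw [h]; exact one_mem _
    · exact Subgroup.subset_closure ⟨h, a, ha, rfl⟩
  · rintro _ ⟨h1, a, ha, rfl⟩ g
    obtain ⟨g, rfl⟩ := QuotientGroup.mk'_surjective N g
    refine ⟨fun h => h1 ?_, g * a * g⁻¹, hD.1.conj_mem a ha g, by simp only [map_mul, map_inv]⟩
    rw [mul_inv_eq_one] at h
    exact mul_eq_left.1 h
  · rcases hdich p hp q hq with hc | ho
    · have h2 : (p * q) ^ 2 = 1 := by
        rw [(show Commute p q from hc).mul_pow, ← hord p hp, pow_orderOf_eq_one, hord p hp,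
          ← hord q hq, pow_orderOf_eq_one, one_mul]
      have := Nat.le_of_dvd (by norm_num) (orderOf_dvd_of_pow_eq_one h2)
      omega
    · rw [h] at ho; exact absurd ho (by decide)

/-- Members with product of odd order and distinct commuting images cannot exist. -/
theorem mk_eq_of_commute [Finite G] (hD : Cfsg.IsOddTranspositionSet D) {a b : G} (ha : a ∈ D) (hb : b ∈ D)
    (hab : ¬ Commute a b) (h : Commute (QuotientGroup.mk' N a) (QuotientGroup.mk' N b)) :
    QuotientGroup.mk' N a = QuotientGroup.mk' N b := by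
  have h2 : (QuotientGroup.mk' N (a * b)) ^ 2 = 1 := by
    rw [map_mul, h.mul_pow, ← map_pow, ← map_pow, pow_two, pow_two, mul_self hD.1 ha,
      mul_self hD.1 hb, map_one, one_mul]
  have h1 := CfsgLib.Invol.eq_one_of_odd_of_pow_two (k := 1)
    ((oddAdj_of_not_commute hD ha hb hab).2.2.2.of_dvd_nat
      (orderOf_map_dvd (QuotientGroup.mk' N) (a * b))) (by rwa [pow_one])
  rw [map_mul] at h1
  rw [eq_inv_of_mul_eq_one_left h1, ← map_inv, inv_eq hD.1 hb]

end Quotient

end CfsgLib.RootInvol.OddTr
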